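import Groth.Agent.LiftObs29.Thick
import Groth.Agent.PicDef15.SqZero
import Groth.Agent.H8Lim.ModSections
import Groth.Agent.CAlgH.FlatFormallySmooth
import Groth.Agent.VarietyLib.FiniteClosedCover
import Mathlib.AlgebraicGeometry.Morphisms.Flat
import Mathlib.AlgebraicGeometry.Morphisms.Smooth
import Mathlib.LinearAlgebra.TensorProduct.RightExactness

/-!
# The thickening of a flat lift along a square zero ideal
-/

set_option autoImplicit false
set_option backward.isDefEq.respectTransparency.types false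
set_option backward.isDefEq.respectTransparency false
set_option linter.style.haveILetI false
set_option linter.unusedSectionVars false

universe u

open CategoryTheory CategoryTheory.Limits AlgebraicGeometry TopologicalSpace Opposite TensorProduct
open Groth.Agent.Coherent Groth.Agent.PicLib Groth.Agent.EGA43.InjFibre

noncomputable section

namespace Groth.Agent.LiftObs29

variable {S X₀ : Scheme.{u}} (I : S.IdealSheafData) (f₀ : X₀ ⟶ I.subscheme)

/-- The ideal pulled back to the scheme to be deformed. -/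
abbrev pullN : X₀.Modules := (Scheme.Modules.pullback (f₀ ≫ I.subschemeι)).obj (ClSub.idealMod I)

/-- The pullback of a section of the ideal. -/
def pgen (T : S.Opens) (V : X₀.Opens) (e : V ≤ (f₀ ≫ I.subschemeι) ⁻¹ᵁ T) (m : Γ(ClSub.idealMod I, T)) :
    Γ(pullN I f₀, V) :=
  resM (pullN I f₀) e (pullSec (f₀ ≫ I.subschemeι) m)

theorem span_pgen (T : S.affineOpens) (V : Small (f₀ ≫ I.subschemeι)) (e : V.o ≤ (f₀ ≫ I.subschemeι) ⁻¹ᵁ T.1) :
    Submodule.span Γ(X₀, V.o) (Set.range (pgen I f₀ T.1 V.o e)) = ⊤ := by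
  haveI := MorProj.isQCoh_idealMod I
  rw [← Set.image_univ]
  exact H8Lim.span_pullSec_eq_top _ T.2 V.hV e (ClSub.idealMod I) Set.univ Submodule.span_univ

/-- The generators given by the ideal. -/
def idealGen : GenData f₀ I.subschemeι (pullN I f₀) where
  gen T V e := Set.range fun m => (PicDef15.val I T.1 m, pgen I f₀ T.1 V.o e m)
  span T V e := by
    rw [← Set.range_comp]
    exact span_pgen I f₀ T V e

theorem pgen_res {T T' : S.Opens} (hT : T ≤ T') {V V' : X₀.Opens} (h : V ≤ V')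
    (e' : V' ≤ (f₀ ≫ I.subschemeι) ⁻¹ᵁ T') (e : V ≤ (f₀ ≫ I.subschemeι) ⁻¹ᵁ T) (m : Γ(ClSub.idealMod I, T')) :
    resM (pullN I f₀) h (pgen I f₀ T' V' e' m) = pgen I f₀ T V e (resM (ClSub.idealMod I) hT m) := by
  unfold pgen
  rw [← resM_pullSec, resM_resM, resM_resM]

namespace OfScheme

variable (hI : I ^ 2 = ⊥) {U : X₀.Opens} {X : Scheme.{u}} (f : X ⟶ S) (j : U.toScheme ⟶ X)
  (hc : IsPullback j (U.ι ≫ f₀) f I.subschemeι)

local notation "b₀" => f₀ ≫ I.subschemeι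

include hc in
theorem isClosedImmersion_j : IsClosedImmersion j :=
  MorphismProperty.of_isPullback (P := @IsClosedImmersion) hc.flip inferInstance

include hI hc in
theorem surjective_j : Function.Surjective j := by
  haveI : Surjective I.subschemeι := ⟨PicDef15.surjective_subschemeι I hI⟩
  exact (MorphismProperty.of_isPullback (P := @Surjective) hc.flip inferInstance).surj

/-- The open of the lift under an open of `U`. -/
def O (V : X₀.Opens) : X.Opens :=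
  ⟨j '' (U.ι ⁻¹ᵁ V : Set U.toScheme),
    ((isClosedImmersion_j I f₀ f j hc).base_closed.isInducing.isOpenMap
      ((Function.Surjective.range_eq (surjective_j I f₀ hI f j hc)).symm ▸ isOpen_univ)) _ (U.ι ⁻¹ᵁ V).isOpen⟩

theorem preimage_O (V : X₀.Opens) : j ⁻¹ᵁ O I f₀ hI f j hc V = U.ι ⁻¹ᵁ V :=
  Opens.ext (Set.preimage_image_eq _ (isClosedImmersion_j I f₀ f j hc).base_closed.injective)

theorem O_mono {V V' : X₀.Opens} (h : V ≤ V') : O I f₀ hI f j hc V ≤ O I f₀ hI f j hc V' :=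
  Set.image_mono (fun _ hx => h hx)

/-- The morphism of an open of `U` into the lift. -/
def jr {V : X₀.Opens} (hV : V ≤ U) : V.toScheme ⟶ X := X₀.homOfLE hV ≫ j

theorem range_jr {V : X₀.Opens} (hV : V ≤ U) : Set.range (jr j hV) ⊆ (O I f₀ hI f j hc V : Set X) := by
  rintro _ ⟨z, rfl⟩
  refine ⟨X₀.homOfLE hV z, ?_, rfl⟩
  show U.ι (X₀.homOfLE hV z) ∈ V
  rw [← Scheme.Hom.comp_apply, Scheme.homOfLE_ι]
  exact z.2

/-- The lift to the open. -/
def jO {V : X₀.Opens} (hV : V ≤ U) : V.toScheme ⟶ (O I f₀ hI f j hc V).toScheme :=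
  IsOpenImmersion.lift (O I f₀ hI f j hc V).ι (jr j hV) (by
    rw [Scheme.Opens.range_ι]; exact range_jr I f₀ hI f j hc hV)

theorem jO_ι {V : X₀.Opens} (hV : V ≤ U) : jO I f₀ hI f j hc hV ≫ (O I f₀ hI f j hc V).ι = jr j hV :=
  IsOpenImmersion.lift_fac _ _ _

theorem isPullback_jO {V : X₀.Opens} (hV : V ≤ U) :
    IsPullback (jO I f₀ hI f j hc hV) (V.ι ≫ f₀) ((O I f₀ hI f j hc V).ι ≫ f) I.subschemeι := by
  have h1 : IsPullback (jO I f₀ hI f j hc hV) (X₀.homOfLE hV) (O I f₀ hI f j hc V).ι j :=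
    IsOpenImmersion.isPullback _ _ _ _ (jO_ι I f₀ hI f j hc hV).symm (by
      rw [Scheme.Opens.opensRange_ι, preimage_O, Scheme.opensRange_homOfLE])
  have h2 := h1.paste_vert hc
  rwa [← Category.assoc, Scheme.homOfLE_ι] at h2

theorem isAffineOpen_O (V : Small b₀) (hV : V.o ≤ U) : IsAffineOpen (O I f₀ hI f j hc V.o) := by
  haveI : IsAffine V.o.toScheme := V.hV
  have h := isPullback_jO I f₀ hI f j hc hV
  haveI : IsClosedImmersion (jO I f₀ hI f j hc hV) :=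
    MorphismProperty.of_isPullback (P := @IsClosedImmersion) h.flip inferInstance
  haveI : Surjective I.subschemeι := ⟨PicDef15.surjective_subschemeι I hI⟩
  exact VarietyLib.isAffine_of_surjective_closedImmersion (jO I f₀ hI f j hc hV)
    (MorphismProperty.of_isPullback (P := @Surjective) h.flip inferInstance).surj

/-- The reduction map. -/
def π (V : Small b₀) (hV : V.o ≤ U) : Γ(X, O I f₀ hI f j hc V.o) ⟶ Γ(X₀, V.o) :=
  Spec.preimage (V.hV.isoSpec.inv ≫ jO I f₀ hI f j hc hV ≫ (isAffineOpen_O I f₀ hI f j hc V hV).isoSpec.hom)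

theorem isoSpec_π (V : Small b₀) (hV : V.o ≤ U) :
    V.hV.isoSpec.hom ≫ Spec.map (π I f₀ hI f j hc V hV) =
      jO I f₀ hI f j hc hV ≫ (isAffineOpen_O I f₀ hI f j hc V hV).isoSpec.hom := by
  rw [π, Spec.map_preimage, Iso.hom_inv_id_assoc]

theorem pull (V : Small b₀) (hV : V.o ≤ U) :
    IsPullback (V.hV.isoSpec.hom ≫ Spec.map (π I f₀ hI f j hc V hV)) (V.o.ι ≫ f₀)
      ((isAffineOpen_O I f₀ hI f j hc V hV).fromSpec ≫ f) I.subschemeι := by
  rw [isoSpec_π]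
  refine (isPullback_jO I f₀ hI f j hc hV).of_iso (Iso.refl _) (isAffineOpen_O I f₀ hI f j hc V hV).isoSpec
    (Iso.refl _) (Iso.refl _) (by simp) (by simp) ?_ (by simp)
  rw [Iso.refl_hom, Category.comp_id, IsAffineOpen.isoSpec_hom_fromSpec_assoc]

theorem isoSpec_res {Y : Scheme.{u}} {V V' : Y.Opens} (hVa : IsAffineOpen V) (hVa' : IsAffineOpen V') (h : V ≤ V') :
    hVa.isoSpec.hom ≫ Spec.map (Y.presheaf.map (homOfLE h).op) = Y.homOfLE h ≫ hVa'.isoSpec.hom := by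
  rw [← cancel_mono hVa'.fromSpec, Category.assoc, Category.assoc, hVa'.map_fromSpec hVa,
    IsAffineOpen.isoSpec_hom_fromSpec, IsAffineOpen.isoSpec_hom_fromSpec, Scheme.homOfLE_ι]

theorem π_fromSpec (V : Small b₀) (hV : V.o ≤ U) :
    V.hV.isoSpec.hom ≫ Spec.map (π I f₀ hI f j hc V hV) ≫ (isAffineOpen_O I f₀ hI f j hc V hV).fromSpec =
      jr j hV := by
  rw [← Category.assoc, isoSpec_π, Category.assoc, IsAffineOpen.isoSpec_hom_fromSpec, jO_ι]

theorem π_res {V V' : Small b₀} (h : V.o ≤ V'.o) (hV' : V'.o ≤ U) :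
    X.presheaf.map (homOfLE (O_mono I f₀ hI f j hc h)).op ≫ π I f₀ hI f j hc V (h.trans hV') =
      π I f₀ hI f j hc V' hV' ≫ X₀.presheaf.map (homOfLE h).op := by
  refine Spec.map_injective ?_
  rw [← cancel_epi V.hV.isoSpec.hom, ← cancel_mono (isAffineOpen_O I f₀ hI f j hc V' hV').fromSpec]
  simp only [Spec.map_comp, Category.assoc]
  rw [(isAffineOpen_O I f₀ hI f j hc V' hV').map_fromSpec (isAffineOpen_O I f₀ hI f j hc V (h.trans hV')),
    π_fromSpec, reassoc_of% (isoSpec_res V.hV V'.hV h), π_fromSpec, jr, jr, ← Category.assoc, Scheme.homOfLE_homOfLE]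

theorem π_surj (V : Small b₀) (hV : V.o ≤ U) : Function.Surjective (π I f₀ hI f j hc V hV) := by
  haveI : IsAffine V.o.toScheme := V.hV
  haveI : IsClosedImmersion (V.hV.isoSpec.hom ≫ Spec.map (π I f₀ hI f j hc V hV)) :=
    MorphismProperty.of_isPullback (P := @IsClosedImmersion) (pull I f₀ hI f j hc V hV).flip inferInstance
  haveI : IsClosedImmersion (Spec.map (π I f₀ hI f j hc V hV)) :=
    (MorphismProperty.cancel_left_of_respectsIso @IsClosedImmersion V.hV.isoSpec.hom _).1 inferInstance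
  have h2 := (IsClosedImmersion.isAffine_surjective_of_isAffine (Spec.map (π I f₀ hI f j hc V hV))).2
  have h3 := (Scheme.ΓSpecIso Γ(X₀, V.o)).commRingCatIsoToRingEquiv.surjective.comp
    (h2.comp (Scheme.ΓSpecIso Γ(X, O I f₀ hI f j hc V.o)).commRingCatIsoToRingEquiv.symm.surjective)
  convert h3 using 1
  funext r
  exact (congr($(Scheme.ΓSpecIso_naturality (π I f₀ hI f j hc V hV))
    ((Scheme.ΓSpecIso Γ(X, O I f₀ hI f j hc V.o)).inv r)).trans
      (congrArg (π I f₀ hI f j hc V hV) ((Scheme.ΓSpecIso _).commRingCatIsoToRingEquiv.apply_symm_apply r))).symm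

theorem O_le (V : X₀.Opens) {T : S.Opens} (e : V ≤ b₀ ⁻¹ᵁ T) : O I f₀ hI f j hc V ≤ f ⁻¹ᵁ T := by
  rintro _ ⟨z, hz, rfl⟩
  show f (j z) ∈ T
  rw [← Scheme.Hom.comp_apply, hc.w, Category.assoc, Scheme.Hom.comp_apply]
  exact e hz

theorem π_str (V : Small b₀) (hV : V.o ≤ U) (T : S.Opens) (e : V.o ≤ b₀ ⁻¹ᵁ T) (c : Γ(S, T)) :
    π I f₀ hI f j hc V hV (f.appLE T _ (O_le I f₀ hI f j hc V.o e) c) = (b₀).appLE T V.o e c := by
  have hO := isAffineOpen_O I f₀ hI f j hc V hV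
  have hs : Spec.map (π I f₀ hI f j hc V hV) ≫ hO.fromSpec ≫ f = V.hV.fromSpec ≫ b₀ := by
    rw [← cancel_epi V.hV.isoSpec.hom, ← Category.assoc, (pull I f₀ hI f j hc V hV).w,
      IsAffineOpen.isoSpec_hom_fromSpec_assoc, Category.assoc]
  have e₁ : ⊤ ≤ (hO.fromSpec ≫ f) ⁻¹ᵁ T := by
    rw [Scheme.Hom.comp_preimage]
    exact hO.fromSpec_preimage_self.ge.trans (Scheme.Hom.preimage_mono _ (O_le I f₀ hI f j hc V.o e))
  have e₂ : ⊤ ≤ (V.hV.fromSpec ≫ b₀) ⁻¹ᵁ T := by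
    rw [Scheme.Hom.comp_preimage]
    exact V.hV.fromSpec_preimage_self.ge.trans (Scheme.Hom.preimage_mono _ e)
  rw [← strR_fromSpec b₀ V.hV T e e₂, strR_comp (π I f₀ hI f j hc V hV) _ hs T e₁ e₂,
    ← strR_fromSpec f hO T (O_le I f₀ hI f j hc V.o e) e₁]
  rfl

theorem π_val (V : Small b₀) (hV : V.o ≤ U) (T : S.Opens) (e : V.o ≤ b₀ ⁻¹ᵁ T) (m : Γ(ClSub.idealMod I, T)) :
    π I f₀ hI f j hc V hV (f.appLE T _ (O_le I f₀ hI f j hc V.o e) (PicDef15.val I T m)) = 0 := by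
  rw [π_str I f₀ hI f j hc V hV T e]
  have e' : V.o ≤ f₀ ⁻¹ᵁ (I.subschemeι ⁻¹ᵁ T) := e
  rw [show (b₀).appLE T V.o e (PicDef15.val I T m) =
    f₀.appLE (I.subschemeι ⁻¹ᵁ T) V.o e' (I.subschemeι.app T (PicDef15.val I T m)) by
      rw [Scheme.Hom.comp_appLE]; rfl]
  rw [PicDef15.app_val, map_zero]

theorem ker_le (V : Small b₀) (hV : V.o ≤ U) (T : S.affineOpens) (e : V.o ≤ b₀ ⁻¹ᵁ T.1) :
    RingHom.ker (π I f₀ hI f j hc V hV).hom ≤
      Ideal.span (Set.range fun m => f.appLE T.1 _ (O_le I f₀ hI f j hc V.o e) (PicDef15.val I T.1 m)) := by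
  set J := Ideal.span (Set.range fun m => f.appLE T.1 _ (O_le I f₀ hI f j hc V.o e) (PicDef15.val I T.1 m)) with hJ
  have hO := isAffineOpen_O I f₀ hI f j hc V hV
  let q : Γ(X, O I f₀ hI f j hc V.o) ⟶ CommRingCat.of (Γ(X, O I f₀ hI f j hc V.o) ⧸ J) :=
    CommRingCat.ofHom (Ideal.Quotient.mk J)
  let g : Γ(S, T.1) →+* Γ(X, O I f₀ hI f j hc V.o) ⧸ J :=
    (Ideal.Quotient.mk J).comp (f.appLE T.1 _ (O_le I f₀ hI f j hc V.o e)).hom
  have hg : RingHom.ker (I.subschemeι.app T.1).hom ≤ RingHom.ker g := fun a ha => by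
    obtain ⟨m, rfl⟩ := PicDef15.exists_val I T.1 a ha
    exact Ideal.Quotient.eq_zero_iff_mem.2 (Ideal.subset_span ⟨m, rfl⟩)
  let g₀ : Γ(I.subscheme, I.subschemeι ⁻¹ᵁ T.1) ⟶ CommRingCat.of (Γ(X, O I f₀ hI f j hc V.o) ⧸ J) :=
    CommRingCat.ofHom (RingHom.liftOfSurjective (I.subschemeι.app T.1).hom (I.subschemeι.app_surjective T.1 T.2) ⟨g, hg⟩)
  have hg₀ : I.subschemeι.app T.1 ≫ g₀ = f.appLE T.1 _ (O_le I f₀ hI f j hc V.o e) ≫ q :=
    CommRingCat.hom_ext (RingHom.ext fun a =>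
      RingHom.liftOfSurjective_comp_apply (I.subschemeι.app T.1).hom (I.subschemeι.app_surjective T.1 T.2) ⟨g, hg⟩ a)
  have hT₀ : IsAffineOpen (I.subschemeι ⁻¹ᵁ T.1) := T.2.preimage I.subschemeι
  have hsq : Spec.map q ≫ hO.fromSpec ≫ f = (Spec.map g₀ ≫ hT₀.fromSpec) ≫ I.subschemeι := by
    rw [← IsAffineOpen.SpecMap_appLE_fromSpec f T.2 hO (O_le I f₀ hI f j hc V.o e), ← Category.assoc,
      ← Spec.map_comp, ← hg₀, Spec.map_comp, Category.assoc, Category.assoc,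
      ← IsAffineOpen.SpecMap_appLE_fromSpec I.subschemeι T.2 hT₀ le_rfl, Scheme.Hom.app_eq_appLE]
  obtain ⟨l, hl, -⟩ := (pull I f₀ hI f j hc V hV).exists_lift (Spec.map q) (Spec.map g₀ ≫ hT₀.fromSpec) hsq
  rw [← Category.assoc, ← Spec.map_preimage (l ≫ V.hV.isoSpec.hom), ← Spec.map_comp] at hl
  intro r hr
  have h1 := congr($(Spec.map_injective hl) r)
  rw [← Ideal.Quotient.eq_zero_iff_mem]
  refine (Eq.symm ?_).trans (show Spec.preimage (l ≫ V.hV.isoSpec.hom) (π I f₀ hI f j hc V hV r) = 0 by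
    rw [show π I f₀ hI f j hc V hV r = 0 from hr, map_zero])
  exact h1

/-- The inclusion of the kernel relative to an affine of the base. -/
structure IsIncl (V : Small b₀) (hV : V.o ≤ U) (T : S.Opens) (e : V.o ≤ b₀ ⁻¹ᵁ T)
    (φ : Γ(pullN I f₀, V.o) →+ Γ(X, O I f₀ hI f j hc V.o)) : Prop where
  smul : ∀ r n, φ (π I f₀ hI f j hc V hV r • n) = r * φ n
  gen : ∀ m, φ (pgen I f₀ T V.o e m) = f.appLE T _ (O_le I f₀ hI f j hc V.o e) (PicDef15.val I T m)

theorem IsIncl.res {V V' : Small b₀} (h : V.o ≤ V'.o) (hV' : V'.o ≤ U) {T : S.Opens} {T' : S.affineOpens}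
    (hT : T ≤ T'.1) {e : V.o ≤ b₀ ⁻¹ᵁ T} {e' : V'.o ≤ b₀ ⁻¹ᵁ T'.1} {φ φ'}
    (hφ : IsIncl I f₀ hI f j hc V (h.trans hV') T e φ) (hφ' : IsIncl I f₀ hI f j hc V' hV' T'.1 e' φ')
    (n : Γ(pullN I f₀, V'.o)) :
    X.presheaf.map (homOfLE (O_mono I f₀ hI f j hc h)).op (φ' n) = φ (resM (pullN I f₀) h n) := by
  have hn : n ∈ Submodule.span Γ(X₀, V'.o) (Set.range (pgen I f₀ T'.1 V'.o e')) :=
    span_pgen I f₀ T' V' e' ▸ trivial
  induction hn using Submodule.span_induction with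
  | mem z hz =>
    obtain ⟨m, rfl⟩ := hz
    rw [hφ'.gen, pgen_res I f₀ hT h e' e m, hφ.gen, PicDef15.val_res]
    show (f.appLE T'.1 _ _ ≫ X.presheaf.map _) _ = (S.presheaf.map (homOfLE hT).op ≫ f.appLE T _ _) _
    rw [Scheme.Hom.appLE_map, Scheme.Hom.map_appLE]
  | zero => simp only [map_zero]
  | add _ _ _ _ h1 h2 => simp only [map_add, h1, h2]
  | smul s z _ h1 =>
    obtain ⟨r, rfl⟩ := π_surj I f₀ hI f j hc V' hV' s
    rw [hφ'.smul, map_mul, h1, resM_smul, ← hφ.smul]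
    refine congrArg φ (congrArg (· • resM (pullN I f₀) h z) ?_)
    exact congr($(π_res I f₀ hI f j hc h hV') r)

variable [Flat f]

theorem exists_isIncl (V : Small b₀) (hV : V.o ≤ U) (T : S.affineOpens) (e : V.o ≤ b₀ ⁻¹ᵁ T.1) :
    ∃ φ, IsIncl I f₀ hI f j hc V hV T.1 e φ ∧ Function.Injective φ ∧
      ∀ r, π I f₀ hI f j hc V hV r = 0 → ∃ n, φ n = r := by
  haveI := MorProj.isQCoh_idealMod I
  letI := ((b₀).appLE T.1 V.o e).hom.toAlgebra
  letI := Module.compHom Γ(pullN I f₀, V.o) ((b₀).appLE T.1 V.o e).hom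
  haveI : IsScalarTower Γ(S, T.1) Γ(X₀, V.o) Γ(pullN I f₀, V.o) := IsScalarTower.of_algebraMap_smul fun _ _ => rfl
  letI algB : Algebra Γ(S, T.1) Γ(X, O I f₀ hI f j hc V.o) := (f.appLE T.1 _ (O_le I f₀ hI f j hc V.o e)).hom.toAlgebra
  obtain ⟨μ, hμ, hμm⟩ := pullMap_isBaseChange b₀ T.2 V.hV e (ClSub.idealMod I)
  have hμm' : ∀ m, μ m = pgen I f₀ T.1 V.o e m := fun m => (hμm m).trans (pullMap_eq_resM_pullSec _ _ _ _ _ _)
  let πa : Γ(X, O I f₀ hI f j hc V.o) →ₐ[Γ(S, T.1)] Γ(X₀, V.o) :=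
    { (π I f₀ hI f j hc V hV).hom with commutes' := fun c => π_str I f₀ hI f j hc V hV T.1 e c }
  let val' : Γ(ClSub.idealMod I, T.1) →ₗ[Γ(S, T.1)] Γ(S, T.1) :=
    { toFun := PicDef15.val I T.1
      map_add' := map_add _
      map_smul' := fun a m => Scheme.Modules.Hom.app_smul (ClSub.idealModι I) a m }
  let Φ : Γ(X, O I f₀ hI f j hc V.o) ⊗[Γ(S, T.1)] Γ(ClSub.idealMod I, T.1) →ₗ[Γ(S, T.1)] Γ(X, O I f₀ hI f j hc V.o) :=
    (TensorProduct.rid Γ(S, T.1) _).toLinearMap ∘ₗ val'.lTensor _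
  let Ψ : Γ(X, O I f₀ hI f j hc V.o) ⊗[Γ(S, T.1)] Γ(ClSub.idealMod I, T.1) →ₗ[Γ(S, T.1)] Γ(pullN I f₀, V.o) :=
    (hμ.equiv.restrictScalars Γ(S, T.1)).toLinearMap ∘ₗ πa.toLinearMap.rTensor _
  have hΨ : ∀ r m, Ψ (r ⊗ₜ m) = π I f₀ hI f j hc V hV r • pgen I f₀ T.1 V.o e m := fun r m => by
    show hμ.equiv (π I f₀ hI f j hc V hV r ⊗ₜ m) = _
    rw [hμ.equiv_tmul, hμm']
  have hΦ : ∀ r m, Φ (r ⊗ₜ m) = f.appLE T.1 _ (O_le I f₀ hI f j hc V.o e) (PicDef15.val I T.1 m) * r := fun r m => by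
    show TensorProduct.rid Γ(S, T.1) _ (r ⊗ₜ PicDef15.val I T.1 m) = _
    rw [TensorProduct.rid_tmul, Algebra.smul_def]
    rfl
  have hsurj : Function.Surjective πa.toLinearMap := π_surj I f₀ hI f j hc V hV
  have hΨi : Function.Injective Ψ := by
    refine (hμ.equiv.restrictScalars Γ(S, T.1)).injective.comp ((injective_iff_map_eq_zero _).2 fun z hz => ?_)
    obtain ⟨w, rfl⟩ := ((rTensor_exact Γ(ClSub.idealMod I, T.1)
      (LinearMap.exact_subtype_ker_map πa.toLinearMap) hsurj) z).1 hz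
    induction w using TensorProduct.induction_on with
    | zero => rw [map_zero]
    | add a c ha hc' => rw [map_add, ha (by rw [← LinearMap.comp_apply]; exact
        ((rTensor_exact _ (LinearMap.exact_subtype_ker_map πa.toLinearMap) hsurj) _).2 ⟨a, rfl⟩), hc' (by
        exact ((rTensor_exact _ (LinearMap.exact_subtype_ker_map πa.toLinearMap) hsurj) _).2 ⟨c, rfl⟩), add_zero]
    | tmul k m =>
      rw [LinearMap.rTensor_tmul]
      have hk : k.1 ∈ Ideal.span (Set.range fun m =>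
          f.appLE T.1 _ (O_le I f₀ hI f j hc V.o e) (PicDef15.val I T.1 m)) :=
        ker_le I f₀ hI f j hc V hV T e k.2
      show k.1 ⊗ₜ[Γ(S, T.1)] m = 0
      clear hz
      generalize k.1 = x at hk
      induction hk using Submodule.span_induction with
      | mem x hx =>
        obtain ⟨m', rfl⟩ := hx
        have hm : PicDef15.val I T.1 m' • m = (0 : Γ(ClSub.idealMod I, T.1)) := by
          refine PicDef15.val_injective I T.1 ?_
          rw [map_zero]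
          exact (Scheme.Modules.Hom.app_smul (ClSub.idealModι I) _ m).trans
            (PicDef15.mul_eq_zero I hI T.1 (PicDef15.app_val I _ m') (PicDef15.app_val I _ m))
        show f.appLE T.1 _ (O_le I f₀ hI f j hc V.o e) (PicDef15.val I T.1 m') ⊗ₜ[Γ(S, T.1)] m = 0
        rw [show f.appLE T.1 _ (O_le I f₀ hI f j hc V.o e) (PicDef15.val I T.1 m') =
          PicDef15.val I T.1 m' • (1 : Γ(X, O I f₀ hI f j hc V.o)) by rw [Algebra.smul_def, mul_one]; rfl,
          TensorProduct.smul_tmul, hm, TensorProduct.tmul_zero]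
      | zero => rw [TensorProduct.zero_tmul]
      | add x y _ _ hx hy => rw [TensorProduct.add_tmul, hx, hy, add_zero]
      | smul r x _ hx => rw [← TensorProduct.smul_tmul', hx, smul_zero]
  have hΨs : Function.Surjective Ψ := hμ.equiv.surjective.comp (LinearMap.rTensor_surjective _ hsurj)
  let E := LinearEquiv.ofBijective Ψ ⟨hΨi, hΨs⟩
  have hflat : Module.Flat Γ(S, T.1) Γ(X, O I f₀ hI f j hc V.o) :=
    f.flat_appLE T.2 (isAffineOpen_O I f₀ hI f j hc V hV) (O_le I f₀ hI f j hc V.o e)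
  have hΦi : Function.Injective Φ := (TensorProduct.rid Γ(S, T.1) _).injective.comp
    (Module.Flat.lTensor_preserves_injective_linearMap val' (PicDef15.val_injective I T.1))
  have hlin : ∀ r z, Ψ (r • z) = π I f₀ hI f j hc V hV r • Ψ z := fun r z => by
    induction z using TensorProduct.induction_on with
    | zero => rw [smul_zero, map_zero, smul_zero]
    | tmul x m => rw [TensorProduct.smul_tmul', hΨ, hΨ, smul_eq_mul, map_mul, mul_smul]
    | add a c ha hc' => rw [smul_add, map_add, map_add, smul_add, ha, hc']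
  have hlin' : ∀ r z, Φ (r • z) = r * Φ z := fun r z => by
    induction z using TensorProduct.induction_on with
    | zero => rw [smul_zero, map_zero, mul_zero]
    | tmul x m => rw [TensorProduct.smul_tmul', hΦ, hΦ, smul_eq_mul]; ring
    | add a c ha hc' => rw [smul_add, map_add, map_add, mul_add, ha, hc']
  have hE : ∀ z, (Φ ∘ₗ E.symm.toLinearMap) (Ψ z) = Φ z := fun z => by
    show Φ (E.symm (E z)) = _
    rw [E.symm_apply_apply]
  refine ⟨(Φ ∘ₗ E.symm.toLinearMap).toAddMonoidHom, ⟨fun r n => ?_, fun m => ?_⟩,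
    hΦi.comp E.symm.injective, fun r hr => ?_⟩
  · obtain ⟨z, rfl⟩ := hΨs n
    show (Φ ∘ₗ E.symm.toLinearMap) (π I f₀ hI f j hc V hV r • Ψ z) = r * (Φ ∘ₗ E.symm.toLinearMap) (Ψ z)
    rw [← hlin, hE, hE, hlin']
  · show (Φ ∘ₗ E.symm.toLinearMap) (pgen I f₀ T.1 V.o e m) = _
    rw [← one_smul Γ(X₀, V.o) (pgen I f₀ T.1 V.o e m), ← map_one (π I f₀ hI f j hc V hV).hom, ← hΨ, hE, hΦ, mul_one]
  · show ∃ n, (Φ ∘ₗ E.symm.toLinearMap) n = r
    suffices ∃ z, Φ z = r by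
      obtain ⟨z, hz⟩ := this
      exact ⟨Ψ z, (hE z).trans hz⟩
    clear! E
    have hr' := ker_le I f₀ hI f j hc V hV T e hr
    clear hr
    induction hr' using Submodule.span_induction with
    | mem x hx =>
      obtain ⟨m, rfl⟩ := hx
      exact ⟨1 ⊗ₜ m, by rw [hΦ, mul_one]⟩
    | zero => exact ⟨0, map_zero _⟩
    | add x y _ _ hx hy =>
      obtain ⟨a, rfl⟩ := hx
      obtain ⟨c, rfl⟩ := hy
      exact ⟨a + c, map_add _ _ _⟩
    | smul s x _ hx =>
      obtain ⟨a, rfl⟩ := hx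
      exact ⟨s • a, hlin' s a⟩

/-- The chosen inclusion. -/
def incl (V : Small b₀) (hV : V.o ≤ U) : Γ(pullN I f₀, V.o) →+ Γ(X, O I f₀ hI f j hc V.o) :=
  (exists_isIncl I f₀ hI f j hc V hV V.2.choose V.2.choose_spec).choose

theorem incl_isIncl (V : Small b₀) (hV : V.o ≤ U) (T : S.affineOpens) (e : V.o ≤ b₀ ⁻¹ᵁ T.1) :
    IsIncl I f₀ hI f j hc V hV T.1 e (incl I f₀ hI f j hc V hV) := by
  obtain ⟨hφ, -, -⟩ := (exists_isIncl I f₀ hI f j hc V hV V.2.choose V.2.choose_spec).choose_spec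
  obtain ⟨φ', hφ', -, -⟩ := exists_isIncl I f₀ hI f j hc V hV T e
  suffices incl I f₀ hI f j hc V hV = φ' by rw [this]; exact hφ'
  refine AddMonoidHom.ext fun n => ?_
  refine TopCat.Sheaf.eq_of_locally_eq' X.sheaf
    (fun p : {V' : Small b₀ // V'.o ≤ V.o ∧ ∃ T'' : S.affineOpens, V'.o ≤ b₀ ⁻¹ᵁ T''.1 ∧
      T''.1 ≤ V.2.choose.1 ⊓ T.1} => O I f₀ hI f j hc p.1.o) (O I f₀ hI f j hc V.o)
    (fun p => homOfLE (O_mono I f₀ hI f j hc p.2.1)) ?_ _ _ ?_
  · rintro _ ⟨z, hz, rfl⟩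
    obtain ⟨T'', hT'', hzT, hle⟩ := Opens.isBasis_iff_nbhd.mp S.isBasis_affineOpens
      (show b₀ (U.ι z) ∈ V.2.choose.1 ⊓ T.1 from ⟨V.2.choose_spec hz, e hz⟩)
    obtain ⟨V', hzV', hV'⟩ := exists_small (b := b₀) (show U.ι z ∈ V.o ⊓ b₀ ⁻¹ᵁ T'' from ⟨hz, hzT⟩)
    exact Opens.mem_iSup.2 ⟨⟨V', hV'.trans inf_le_left, ⟨T'', hT''⟩, hV'.trans inf_le_right, hle⟩, z, hzV', rfl⟩
  · rintro ⟨V', hV', T'', e'', hle⟩
    obtain ⟨ψ, hψ, -, -⟩ := exists_isIncl I f₀ hI f j hc V' (hV'.trans hV) T'' e''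
    exact (IsIncl.res I f₀ hI f j hc hV' hV (hle.trans inf_le_left) hψ hφ n).trans
      (IsIncl.res I f₀ hI f j hc hV' hV (hle.trans inf_le_right) hψ hφ' n).symm

variable [Smooth f₀]

theorem formallySmooth (V : Small b₀) (hV : V.o ≤ U) (T : S.affineOpens) (e : V.o ≤ b₀ ⁻¹ᵁ T.1) :
    (f.appLE T.1 _ (O_le I f₀ hI f j hc V.o e)).hom.FormallySmooth := by
  have e' : V.o ≤ f₀ ⁻¹ᵁ (I.subschemeι ⁻¹ᵁ T.1) := e
  have hT₀ : IsAffineOpen (I.subschemeι ⁻¹ᵁ T.1) := T.2.preimage I.subschemeι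
  letI := (f.appLE T.1 _ (O_le I f₀ hI f j hc V.o e)).hom.toAlgebra
  letI := (f₀.appLE (I.subschemeι ⁻¹ᵁ T.1) V.o e').hom.toAlgebra
  haveI : Module.Flat Γ(S, T.1) Γ(X, O I f₀ hI f j hc V.o) :=
    f.flat_appLE T.2 (isAffineOpen_O I f₀ hI f j hc V hV) (O_le I f₀ hI f j hc V.o e)
  haveI : Algebra.Smooth Γ(I.subscheme, I.subschemeι ⁻¹ᵁ T.1) Γ(X₀, V.o) := f₀.smooth_appLE hT₀ V.hV e'
  show Algebra.FormallySmooth Γ(S, T.1) Γ(X, O I f₀ hI f j hc V.o)
  refine CAlgH.formallySmooth_of_flat_of_nilpotent (I.subschemeι.app T.1).hom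
    (I.subschemeι.app_surjective T.1 T.2) ⟨2, ?_⟩ (π I f₀ hI f j hc V hV).hom
    (π_surj I f₀ hI f j hc V hV) (RingHom.ext fun c => ?_) fun r hr => ?_
  · rw [eq_comm, Ideal.zero_eq_bot, eq_comm, eq_bot_iff, pow_two, Ideal.mul_le]
    exact fun a ha c hc => Ideal.mem_bot.2 (PicDef15.mul_eq_zero I hI T.1 ha hc)
  · refine (π_str I f₀ hI f j hc V hV T.1 e c).trans ?_
    rw [Scheme.Hom.comp_appLE]
    rfl
  · refine Ideal.span_le.2 ?_ (ker_le I f₀ hI f j hc V hV T e hr)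
    rintro _ ⟨m, rfl⟩
    exact Ideal.mem_map_of_mem _ (PicDef15.app_val I T.1 m)

/-- The thickening of a flat lift. -/
def thick : Thick (idealGen I f₀) U where
  R V _ := Γ(X, O I f₀ hI f j hc V.o)
  res h _ := X.presheaf.map (homOfLE (O_mono I f₀ hI f j hc h)).op
  res_self V _ := X.presheaf.map_id _
  res_res _ _ _ := (X.presheaf.map_comp _ _).symm
  π := π I f₀ hI f j hc
  π_surj := π_surj I f₀ hI f j hc
  π_res h hV' := π_res I f₀ hI f j hc h hV'
  incl := incl I f₀ hI f j hc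
  incl_inj V hV := (exists_isIncl I f₀ hI f j hc V hV V.2.choose V.2.choose_spec).choose_spec.2.1
  π_incl V hV n := by
    obtain ⟨T, e⟩ := V.2
    have hn : n ∈ Submodule.span Γ(X₀, V.o) (Set.range (pgen I f₀ T.1 V.o e)) := span_pgen I f₀ T V e ▸ trivial
    induction hn using Submodule.span_induction with
    | mem z hz =>
      obtain ⟨m, rfl⟩ := hz
      rw [(incl_isIncl I f₀ hI f j hc V hV T e).gen, π_val I f₀ hI f j hc V hV T.1 e]
    | zero => simp only [map_zero]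
    | add _ _ _ _ h1 h2 => simp only [map_add, h1, h2, add_zero]
    | smul s z _ h1 =>
      obtain ⟨r, rfl⟩ := π_surj I f₀ hI f j hc V hV s
      rw [(incl_isIncl I f₀ hI f j hc V hV T e).smul, map_mul, h1, mul_zero]
  exact V hV := (exists_isIncl I f₀ hI f j hc V hV V.2.choose V.2.choose_spec).choose_spec.2.2
  incl_smul V hV := (incl_isIncl I f₀ hI f j hc V hV V.2.choose V.2.choose_spec).smul
  incl_res {V V'} h hV' n := by
    obtain ⟨T', e'⟩ := V'.2
    exact IsIncl.res I f₀ hI f j hc h hV' le_rfl (incl_isIncl I f₀ hI f j hc V (h.trans hV') T' (h.trans e'))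
      (incl_isIncl I f₀ hI f j hc V' hV' T' e') n
  str V hV := (isAffineOpen_O I f₀ hI f j hc V hV).fromSpec ≫ f
  str_res {V V'} h hV' := by
    rw [← Category.assoc, IsAffineOpen.map_fromSpec _ (isAffineOpen_O I f₀ hI f j hc V (h.trans hV'))]
  pull := pull I f₀ hI f j hc
  openImm {V V'} h hV' := by
    haveI : IsOpenImmersion (Spec.map (X.presheaf.map (homOfLE (O_mono I f₀ hI f j hc h)).op) ≫
        (isAffineOpen_O I f₀ hI f j hc V' hV').fromSpec) := by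
      rw [(isAffineOpen_O I f₀ hI f j hc V' hV').map_fromSpec (isAffineOpen_O I f₀ hI f j hc V (h.trans hV'))]
      infer_instance
    exact IsOpenImmersion.of_comp _ (isAffineOpen_O I f₀ hI f j hc V' hV').fromSpec
  incl_gen T V hV e e' p hp := by
    obtain ⟨m, rfl⟩ := hp
    exact ((incl_isIncl I f₀ hI f j hc V hV T e).gen m).trans
      (congr($(strR_fromSpec f (isAffineOpen_O I f₀ hI f j hc V hV) T.1 (O_le I f₀ hI f j hc V.o e) e')
        (PicDef15.val I T.1 m))).symm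
  fsm T V hV e' := by
    have e : V.o ≤ b₀ ⁻¹ᵁ T.1 := fun x hx => by
      have hw : Spec.map (π I f₀ hI f j hc V hV) ≫ (isAffineOpen_O I f₀ hI f j hc V hV).fromSpec ≫ f =
          V.hV.fromSpec ≫ b₀ := by
        rw [← cancel_epi V.hV.isoSpec.hom, ← Category.assoc, (pull I f₀ hI f j hc V hV).w,
          IsAffineOpen.isoSpec_hom_fromSpec_assoc, Category.assoc]
      obtain ⟨w, rfl⟩ : x ∈ Set.range V.hV.fromSpec := by rw [V.hV.range_fromSpec]; exact hx
      show b₀ (V.hV.fromSpec w) ∈ T.1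
      rw [← Scheme.Hom.comp_apply, ← hw, Scheme.Hom.comp_apply]
      exact e' trivial
    rw [strR_fromSpec f (isAffineOpen_O I f₀ hI f j hc V hV) T.1 (O_le I f₀ hI f j hc V.o e) e']
    exact formallySmooth I f₀ hI f j hc V hV T e

end OfScheme

end Groth.Agent.LiftObs29
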