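import Groth.Agent.LiftObs29.Bridge
import Groth.Agent.LiftObs29.OfScheme

/-!
# Uniqueness of flat lifts, and their automorphisms
-/

set_option autoImplicit false
set_option backward.isDefEq.respectTransparency.types false
set_option backward.isDefEq.respectTransparency false
set_option linter.style.haveILetI false
set_option linter.unusedSectionVars false

universe u

open CategoryTheory CategoryTheory.Limits AlgebraicGeometry TopologicalSpace Opposite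

noncomputable section

namespace Groth.Agent.LiftObs29

/-- Morphisms on the members of a cover closed under refinement glue. -/
theorem exists_hom_of_basis {X Y : Scheme.{u}} {J : Type u} (O : J → X.Opens) (hO : ⨆ i, O i = ⊤)
    (hd : ∀ i j x, x ∈ O i → x ∈ O j → ∃ k, x ∈ O k ∧ O k ≤ O i ∧ O k ≤ O j)
    (φ : ∀ i, (O i).toScheme ⟶ Y) (hφ : ∀ i k (h : O k ≤ O i), X.homOfLE h ≫ φ i = φ k) :
    ∃ Φ : X ⟶ Y, ∀ i, (O i).ι ≫ Φ = φ i := by
  let 𝒰 := X.openCoverOfIsOpenCover O hO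
  refine ⟨𝒰.glueMorphisms φ fun i j => ?_, fun i => 𝒰.ι_glueMorphisms _ _ i⟩
  show pullback.fst (O i).ι (O j).ι ≫ φ i = pullback.snd (O i).ι (O j).ι ≫ φ j
  let W : X.Opens := O i ⊓ O j
  let l : pullback (O i).ι (O j).ι ⟶ W.toScheme :=
    IsOpenImmersion.lift W.ι (pullback.fst (O i).ι (O j).ι ≫ (O i).ι) (by
      rintro _ ⟨p, rfl⟩
      rw [Scheme.Opens.range_ι]
      refine ⟨(pullback.fst (O i).ι (O j).ι p).2, ?_⟩
      show (pullback.fst (O i).ι (O j).ι ≫ (O i).ι) p ∈ O j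
      rw [pullback.condition]
      exact (pullback.snd (O i).ι (O j).ι p).2)
  have h1 : pullback.fst (O i).ι (O j).ι = l ≫ X.homOfLE inf_le_left := by
    rw [← cancel_mono (O i).ι, Category.assoc, Scheme.homOfLE_ι, IsOpenImmersion.lift_fac]
  have h2 : pullback.snd (O i).ι (O j).ι = l ≫ X.homOfLE inf_le_right := by
    rw [← cancel_mono (O j).ι, Category.assoc, Scheme.homOfLE_ι, IsOpenImmersion.lift_fac, pullback.condition]
  rw [h1, h2, Category.assoc, Category.assoc]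
  refine congrArg (l ≫ ·) ?_
  choose k hk hki hkj using fun z : W.toScheme => hd i j z.1 z.2.1 z.2.2
  refine Scheme.Cover.hom_ext (W.toScheme.openCoverOfIsOpenCover (fun z : W.toScheme => W.ι ⁻¹ᵁ O (k z))
    (top_le_iff.1 fun z _ => Opens.mem_iSup.2 ⟨z, hk z⟩)) _ _ fun z => ?_
  let m : (W.ι ⁻¹ᵁ O (k z)).toScheme ⟶ (O (k z)).toScheme :=
    IsOpenImmersion.lift (O (k z)).ι ((W.ι ⁻¹ᵁ O (k z)).ι ≫ W.ι) (by
      rintro _ ⟨p, rfl⟩
      rw [Scheme.Opens.range_ι]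
      exact p.2)
  have hm : ∀ {i₁ : J} (h₁ : W ≤ O i₁) (g₁ : O (k z) ≤ O i₁),
      (W.ι ⁻¹ᵁ O (k z)).ι ≫ X.homOfLE h₁ = m ≫ X.homOfLE g₁ := fun h₁ g₁ => by
    rw [← cancel_mono (Scheme.Opens.ι _), Category.assoc, Category.assoc, Scheme.homOfLE_ι, Scheme.homOfLE_ι,
      IsOpenImmersion.lift_fac]
  show (W.ι ⁻¹ᵁ O (k z)).ι ≫ _ = (W.ι ⁻¹ᵁ O (k z)).ι ≫ _
  rw [reassoc_of% (hm inf_le_left (hki z)), reassoc_of% (hm inf_le_right (hkj z)), hφ, hφ]

variable {S S₀ X₀ : Scheme.{u}} {f₀ : X₀ ⟶ S₀} {ι : S₀ ⟶ S} {N : X₀.Modules} {G : GenData f₀ ι N}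

/-- Thickenings of the whole scheme are isomorphic when one cocycles are coboundaries. -/
theorem exists_iso_top (hv : Vanish1 (f₀ ≫ ι) N) (P P' : Thick G ⊤) :
    Nonempty (Thick.Iso P P' ⊤ le_rfl le_rfl) := by
  have θ : ∀ V : Small (f₀ ≫ ι), Thick.Iso P P' V.o le_top le_top := fun V =>
    (Thick.nonempty_iso P P' V le_top le_top).some
  have hc : ∀ V V' : Small (f₀ ≫ ι), ∃ c : DerOn (f₀ ≫ ι) N (V.o ⊓ V'.o),
      ((θ V).restrict inf_le_left).twist c = (θ V').restrict inf_le_right := fun V V' => Thick.Iso.exists_twist_eq _ _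
  choose c hc using hc
  have hcW : ∀ i j (W : X₀.Opens) (hi : W ≤ i.o) (hj : W ≤ j.o),
      ((θ i).restrict hi).twist (resD (le_inf hi hj) (c i j)) = (θ j).restrict hj := fun i j W hi hj =>
    Thick.Iso.ext' fun V hV x => congr(($(hc i j)).θ V (hV.trans (le_inf hi hj)) x)
  have hU : ⨆ V : Small (f₀ ≫ ι), V.o = ⊤ := top_le_iff.1 fun x _ => by
    obtain ⟨V, hxV, -⟩ := exists_small (b := f₀ ≫ ι) (Opens.mem_top x)
    exact Opens.mem_iSup.2 ⟨V, hxV⟩
  obtain ⟨e, he⟩ := hv (Small (f₀ ≫ ι)) (fun V => V.o) hU c fun i j k W hi hj hk => by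
    have h := hcW i k W hi hk
    rw [← hcW j k W hj hk, ← hcW i j W hi hj, Thick.Iso.twist_twist] at h
    rw [Thick.Iso.twist_injective _ h]
    abel
  let a : ∀ V : Small (f₀ ≫ ι), Thick.Iso P P' V.o le_top le_top := fun V => (θ V).twist (-e V)
  have ha : ∀ (i j : Small (f₀ ≫ ι)) (h : j.o ≤ i.o), (a i).restrict h = a j := fun i j h => by
    show ((θ i).twist _).restrict h = (θ j).twist _
    rw [Thick.Iso.restrict_twist, show θ j = (θ j).restrict (le_refl j.o) from rfl, ← hcW i j j.o h le_rfl,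
      Thick.Iso.twist_twist, he i j j.o h le_rfl, map_neg]
    congr 1
    show _ = resD le_rfl (e j) - resD h (e i) + -e j
    rw [show resD (le_refl j.o) (e j) = e j from rfl]
    abel
  exact ⟨{
    θ := fun V _ => (a V).θ V le_rfl
    θ_res := fun {V V'} h hV' => by
      rw [← ha V' V h]
      exact (a V').θ_res h le_rfl
    θ_π := fun V _ => (a V).θ_π V le_rfl
    θ_str := fun V _ => (a V).θ_str V le_rfl }⟩

/-- The inverse. -/
def Thick.Iso.symm {U U' : X₀.Opens} {P : Thick G U} {P' : Thick G U'} {W : X₀.Opens} {hW : W ≤ U} {hW' : W ≤ U'}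
    (a : Thick.Iso P P' W hW hW') : Thick.Iso P' P W hW' hW :=
  haveI : ∀ V hV, IsIso (a.θ V hV) := fun V hV => (ConcreteCategory.isIso_iff_bijective _).2 (a.bijective V hV)
  { θ := fun V hV => inv (a.θ V hV)
    θ_res := fun {V V'} h hV' => by
      rw [IsIso.inv_comp_eq, ← Category.assoc, a.θ_res h hV', Category.assoc, IsIso.hom_inv_id, Category.comp_id]
    θ_π := fun V hV => by rw [IsIso.inv_comp_eq, a.θ_π]
    θ_str := fun V hV => by
      rw [← a.θ_str V hV, ← Category.assoc, ← Spec.map_comp, IsIso.hom_inv_id, Spec.map_id, Category.id_comp] }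

theorem Thick.Iso.θ_symm {U U' : X₀.Opens} {P : Thick G U} {P' : Thick G U'} {W : X₀.Opens} {hW : W ≤ U}
    {hW' : W ≤ U'} (a : Thick.Iso P P' W hW hW') (V : Small (f₀ ≫ ι)) (hV : V.o ≤ W) :
    a.θ V hV ≫ a.symm.θ V hV = 𝟙 _ :=
  haveI : IsIso (a.θ V hV) := (ConcreteCategory.isIso_iff_bijective _).2 (a.bijective V hV)
  IsIso.hom_inv_id _

theorem Thick.Iso.symm_θ {U U' : X₀.Opens} {P : Thick G U} {P' : Thick G U'} {W : X₀.Opens} {hW : W ≤ U}
    {hW' : W ≤ U'} (a : Thick.Iso P P' W hW hW') (V : Small (f₀ ≫ ι)) (hV : V.o ≤ W) :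
    a.symm.θ V hV ≫ a.θ V hV = 𝟙 _ :=
  haveI : IsIso (a.θ V hV) := (ConcreteCategory.isIso_iff_bijective _).2 (a.bijective V hV)
  IsIso.inv_hom_id _

section Scheme

variable {S X₀ : Scheme.{u}} (I : S.IdealSheafData) (f₀ : X₀ ⟶ I.subscheme) (hI : I ^ 2 = ⊥)

theorem isPullback_topι {X : Scheme.{u}} {f : X ⟶ S} {j : X₀ ⟶ X} (hc : IsPullback j f₀ f I.subschemeι) :
    IsPullback ((⊤ : X₀.Opens).ι ≫ j) ((⊤ : X₀.Opens).ι ≫ f₀) f I.subschemeι :=
  hc.of_iso X₀.topIso.symm (Iso.refl _) (Iso.refl _) (Iso.refl _) (by simp [← Scheme.topIso_hom]) (by simp [← Scheme.topIso_hom])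
    (by simp) (by simp)

variable {I f₀} {X X' : Scheme.{u}} {f : X ⟶ S} {f' : X' ⟶ S} [Flat f] [Flat f'] [Smooth f₀] {j : X₀ ⟶ X}
  {j' : X₀ ⟶ X'} (hc : IsPullback j f₀ f I.subschemeι) (hc' : IsPullback j' f₀ f' I.subschemeι)

set_option quotPrecheck false
local notation "O₁" => OfScheme.O I f₀ hI f ((⊤ : X₀.Opens).ι ≫ j) (isPullback_topι I f₀ hc)
local notation "O₂" => OfScheme.O I f₀ hI f' ((⊤ : X₀.Opens).ι ≫ j') (isPullback_topι I f₀ hc')
local notation "P₁" => OfScheme.thick I f₀ hI f ((⊤ : X₀.Opens).ι ≫ j) (isPullback_topι I f₀ hc)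
local notation "P₂" => OfScheme.thick I f₀ hI f' ((⊤ : X₀.Opens).ι ≫ j') (isPullback_topι I f₀ hc')

theorem iSup_O : ⨆ V : Small (f₀ ≫ I.subschemeι), O₂ V.o = ⊤ := top_le_iff.1 fun y _ => by
  obtain ⟨z, rfl⟩ := OfScheme.surjective_j I f₀ hI f' _ (isPullback_topι I f₀ hc') y
  obtain ⟨V, hV, -⟩ := exists_small (b := f₀ ≫ I.subschemeι) (Opens.mem_top ((⊤ : X₀.Opens).ι z))
  exact Opens.mem_iSup.2 ⟨V, z, hV, rfl⟩

theorem exists_O_inter (V V' : Small (f₀ ≫ I.subschemeι)) (y : X') (h : y ∈ O₂ V.o) (h' : y ∈ O₂ V'.o) :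
    ∃ V'' : Small (f₀ ≫ I.subschemeι), y ∈ O₂ V''.o ∧ O₂ V''.o ≤ O₂ V.o ∧ O₂ V''.o ≤ O₂ V'.o := by
  obtain ⟨z, hz, rfl⟩ := h
  obtain ⟨z', hz', hzz⟩ := h'
  obtain rfl : z' = z := (OfScheme.isClosedImmersion_j I f₀ f' _ (isPullback_topι I f₀ hc')).base_closed.injective hzz
  obtain ⟨V'', hV'', hle⟩ := exists_small (b := f₀ ≫ I.subschemeι) (show (⊤ : X₀.Opens).ι z' ∈ V.o ⊓ V'.o from ⟨hz, hz'⟩)
  exact ⟨V'', ⟨z', hV'', rfl⟩, OfScheme.O_mono I f₀ hI f' _ _ (hle.trans inf_le_left),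
    OfScheme.O_mono I f₀ hI f' _ _ (hle.trans inf_le_right)⟩

theorem le_of_O_le {V V' : X₀.Opens} (h : O₂ V ≤ O₂ V') : V ≤ V' := fun x hx => by
  obtain ⟨z, hz⟩ : ∃ z : (⊤ : X₀.Opens).toScheme, (⊤ : X₀.Opens).ι z = x := ⟨⟨x, trivial⟩, rfl⟩
  subst hz
  obtain ⟨z', hz', hzz⟩ := h ⟨z, hx, rfl⟩
  obtain rfl : z' = z := (OfScheme.isClosedImmersion_j I f₀ f' _ (isPullback_topι I f₀ hc')).base_closed.injective hzz
  exact hz'

theorem hom_ext_O {Y : Scheme.{u}} {u v : X' ⟶ Y}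
    (h : ∀ V : Small (f₀ ≫ I.subschemeι), (O₂ V.o).ι ≫ u = (O₂ V.o).ι ≫ v) : u = v :=
  Scheme.Cover.hom_ext (X'.openCoverOfIsOpenCover _ (iSup_O hI hc')) _ _ h

theorem exists_hom (a : Thick.Iso P₁ P₂ ⊤ le_rfl le_rfl) :
    ∃ φ : X' ⟶ X, φ ≫ f = f' ∧ j' ≫ φ = j ∧ ∀ (V : Small (f₀ ≫ I.subschemeι)), (O₂ V.o).ι ≫ φ =
      (OfScheme.isAffineOpen_O I f₀ hI f' _ (isPullback_topι I f₀ hc') V le_top).isoSpec.hom ≫ Spec.map (a.θ V le_top) ≫
        (OfScheme.isAffineOpen_O I f₀ hI f _ (isPullback_topι I f₀ hc) V le_top).fromSpec := by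
  let hO₁ := fun V : Small (f₀ ≫ I.subschemeι) => OfScheme.isAffineOpen_O I f₀ hI f _ (isPullback_topι I f₀ hc) V le_top
  let hO₂ := fun V : Small (f₀ ≫ I.subschemeι) => OfScheme.isAffineOpen_O I f₀ hI f' _ (isPullback_topι I f₀ hc') V le_top
  obtain ⟨φ, hφ⟩ := exists_hom_of_basis (fun V : Small (f₀ ≫ I.subschemeι) => O₂ V.o) (iSup_O hI hc')
    (exists_O_inter hI hc')
    (fun V => (hO₂ V).isoSpec.hom ≫ Spec.map (a.θ V le_top) ≫ (hO₁ V).fromSpec) fun V' V h => by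
      have hle := le_of_O_le hI hc' h
      rw [← reassoc_of% (OfScheme.isoSpec_res (hO₂ V) (hO₂ V') h)]
      refine congrArg ((hO₂ V).isoSpec.hom ≫ ·) ?_
      rw [← Category.assoc, ← Spec.map_comp,
        show a.θ V' le_top ≫ X'.presheaf.map (homOfLE h).op =
          X.presheaf.map (homOfLE (OfScheme.O_mono I f₀ hI f _ (isPullback_topι I f₀ hc) hle)).op ≫ a.θ V le_top from
            a.θ_res hle le_top,
        Spec.map_comp, Category.assoc, (hO₁ V').map_fromSpec (hO₁ V)]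
  refine ⟨φ, hom_ext_O hI hc' fun V => ?_, ?_, hφ⟩
  · rw [← Category.assoc, hφ, Category.assoc, Category.assoc,
      show Spec.map (a.θ V le_top) ≫ (hO₁ V).fromSpec ≫ f = (hO₂ V).fromSpec ≫ f' from a.θ_str V le_top,
      IsAffineOpen.isoSpec_hom_fromSpec_assoc]
  · have hU : ⨆ V : Small (f₀ ≫ I.subschemeι), V.o = ⊤ := top_le_iff.1 fun x _ => by
      obtain ⟨V, hxV, -⟩ := exists_small (b := f₀ ≫ I.subschemeι) (Opens.mem_top x)
      exact Opens.mem_iSup.2 ⟨V, hxV⟩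
    refine Scheme.Cover.hom_ext (X₀.openCoverOfIsOpenCover _ hU) _ _ fun V => ?_
    show V.o.ι ≫ j' ≫ φ = V.o.ι ≫ j
    have h2 : OfScheme.jr ((⊤ : X₀.Opens).ι ≫ j') (le_top : V.o ≤ ⊤) = V.o.ι ≫ j' := by
      rw [OfScheme.jr, ← Category.assoc, Scheme.homOfLE_ι]
    have h1 : OfScheme.jr ((⊤ : X₀.Opens).ι ≫ j) (le_top : V.o ≤ ⊤) = V.o.ι ≫ j := by
      rw [OfScheme.jr, ← Category.assoc, Scheme.homOfLE_ι]
    rw [← Category.assoc, ← h2, ← OfScheme.jO_ι I f₀ hI f' _ (isPullback_topι I f₀ hc'), Category.assoc, hφ,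
      ← reassoc_of% (OfScheme.isoSpec_π I f₀ hI f' _ (isPullback_topι I f₀ hc') V le_top), ← h1,
      ← OfScheme.π_fromSpec I f₀ hI f _ (isPullback_topι I f₀ hc) V le_top]
    refine congrArg (V.hV.isoSpec.hom ≫ ·) ?_
    rw [← Category.assoc, ← Spec.map_comp]
    exact congrArg (fun g => Spec.map g ≫ _) (a.θ_π V le_top)

include hI hc hc' in
theorem exists_iso (hv : Vanish1 (f₀ ≫ I.subschemeι) (pullN I f₀)) :
    ∃ e : X' ≅ X, j' ≫ e.hom = j ∧ e.hom ≫ f = f' := by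
  obtain ⟨a⟩ := exists_iso_top hv (OfScheme.thick I f₀ hI f _ (isPullback_topι I f₀ hc))
    (OfScheme.thick I f₀ hI f' _ (isPullback_topι I f₀ hc'))
  obtain ⟨φ, hφf, hφj, hφ⟩ := exists_hom hI hc hc' a
  obtain ⟨ψ, -, -, hψ⟩ := exists_hom hI hc' hc a.symm
  refine ⟨⟨φ, ψ, hom_ext_O hI hc' fun V => ?_, hom_ext_O hI hc fun V => ?_⟩, hφj, hφf⟩
  · rw [← Category.assoc, hφ, Category.assoc, Category.assoc, ← IsAffineOpen.isoSpec_inv_ι, Category.assoc, hψ,
      Iso.inv_hom_id_assoc, ← Category.assoc (Spec.map _), ← Spec.map_comp]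
    rw [show a.symm.θ V le_top ≫ a.θ V le_top = 𝟙 _ from a.symm_θ V le_top, Spec.map_id]
    exact ((congrArg _ (Category.id_comp _)).trans (IsAffineOpen.isoSpec_hom_fromSpec _)).trans (Category.comp_id _).symm
  · rw [← Category.assoc, hψ, Category.assoc, Category.assoc, ← IsAffineOpen.isoSpec_inv_ι, Category.assoc, hφ,
      Iso.inv_hom_id_assoc, ← Category.assoc (Spec.map _), ← Spec.map_comp]
    rw [show a.θ V le_top ≫ a.symm.θ V le_top = 𝟙 _ from a.θ_symm V le_top, Spec.map_id]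
    exact ((congrArg _ (Category.id_comp _)).trans (IsAffineOpen.isoSpec_hom_fromSpec _)).trans (Category.comp_id _).symm

include hI hc in
theorem eq_id (h0 : ∀ d : DerOn (f₀ ≫ I.subschemeι) (pullN I f₀) ⊤, d = 0) (a : X ⟶ X) (hj : j ≫ a = j)
    (hf : a ≫ f = f) : a = 𝟙 X := by
  let hO := fun V : Small (f₀ ≫ I.subschemeι) => OfScheme.isAffineOpen_O I f₀ hI f _ (isPullback_topι I f₀ hc) V le_top
  have hfix : ∀ y, a y = y := fun y => by
    obtain ⟨z, rfl⟩ := OfScheme.surjective_j I f₀ hI f _ (isPullback_topι I f₀ hc) y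
    rw [← Scheme.Hom.comp_apply, Category.assoc, hj]
  have hle : ∀ V : X₀.Opens, O₁ V ≤ a ⁻¹ᵁ O₁ V := fun V y hy => by
    show a y ∈ O₁ V
    rwa [hfix]
  let A : Thick.Iso P₁ P₁ ⊤ le_rfl le_rfl :=
    { θ := fun V _ => a.appLE (O₁ V.o) (O₁ V.o) (hle V.o)
      θ_res := fun {V V'} h _ => by
        show a.appLE _ _ _ ≫ X.presheaf.map _ = X.presheaf.map _ ≫ a.appLE _ _ _
        rw [Scheme.Hom.appLE_map, Scheme.Hom.map_appLE]
      θ_π := fun V hV => by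
        refine Spec.map_injective ?_
        rw [← cancel_mono (hO V).fromSpec, ← cancel_epi V.hV.isoSpec.hom, Spec.map_comp, Category.assoc]
        show V.hV.isoSpec.hom ≫ Spec.map (OfScheme.π I f₀ hI f _ _ V _) ≫ Spec.map (a.appLE _ _ _) ≫ _ = _
        rw [IsAffineOpen.SpecMap_appLE_fromSpec a (hO V) (hO V) (hle V.o)]
        refine Eq.trans ?_ (OfScheme.π_fromSpec I f₀ hI f _ (isPullback_topι I f₀ hc) V le_top).symm
        rw [← Category.assoc, ← Category.assoc, Category.assoc (V.hV.isoSpec.hom),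
          OfScheme.π_fromSpec I f₀ hI f _ (isPullback_topι I f₀ hc) V le_top, OfScheme.jr, Category.assoc,
          Category.assoc, hj]
      θ_str := fun V _ => by
        show Spec.map (a.appLE _ _ _) ≫ (hO V).fromSpec ≫ f = (hO V).fromSpec ≫ f
        rw [← Category.assoc, IsAffineOpen.SpecMap_appLE_fromSpec a (hO V) (hO V) (hle V.o), Category.assoc, hf] }
  obtain ⟨d, hd⟩ := Thick.Iso.exists_twist_eq (Thick.Iso.refl P₁ ⊤ le_rfl) A
  rw [h0 d, Thick.Iso.twist_zero] at hd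
  refine hom_ext_O hI hc fun V => ?_
  rw [Category.comp_id, ← cancel_epi (hO V).isoSpec.inv, ← Category.assoc, IsAffineOpen.isoSpec_inv_ι,
    ← IsAffineOpen.SpecMap_appLE_fromSpec a (hO V) (hO V) (hle V.o),
    show a.appLE (O₁ V.o) (O₁ V.o) (hle V.o) = 𝟙 _ from (congrArg (fun B => B.θ V le_top) hd).symm, Spec.map_id,
    Category.id_comp]

end Scheme

end Groth.Agent.LiftObs29
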