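import Groth.Agent.LiftObs29.Exists
import Groth.Agent.LiftObs29.Unique
import Groth.Agent.FSchLib.Systems
import Groth.Agent.FlatMor12.HomQCoh
import Groth.Agent.Props12.FinLocFree
import Groth.Agent.Coherent.ModExt
import Groth.Agent.VarietyLib.FiniteClosedCover

/-!
# Affine smooth schemes lift uniquely along nilpotent thickenings
-/

set_option autoImplicit false
set_option backward.isDefEq.respectTransparency.types false
set_option backward.isDefEq.respectTransparency false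
set_option linter.style.haveILetI false
set_option linter.unusedSectionVars false

universe u

open CategoryTheory CategoryTheory.Limits AlgebraicGeometry TopologicalSpace Opposite
open Groth.Agent.Coherent Groth.Agent.PicLib Groth.Agent.AmpleLib

noncomputable section

namespace Groth.Agent.LiftObs29

theorem subsingleton_ext_of_isAffine {X₀ S₀ : Scheme.{u}} (f₀ : X₀ ⟶ S₀) [Smooth f₀] [IsAffine X₀]
    (N : X₀.Modules) [Coh.IsQCoh N] (q : ℕ) :
    Subsingleton (Abelian.Ext.{u} (Omega.sheaf f₀) N (q + 1)) := by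
  let E := Omega.sheaf f₀
  have hE : FlatMod.IsFinLocFree E := isFinLocFree_omega f₀
  haveI : Coh.IsQCoh E := CAlgH3.LocFreeFactor.isQCoh_of_finLocFree hE
  haveI : Coh.IsQCoh (internalHom E N) :=
    FlatMor12.isQCoh_internalHom_of_isFP (Props12.isFP_of_isFinLocFree E hE)
  have hH : Subsingleton (Coh.HH X₀ (internalHom E N) (q + 1)) := subsingleton_HH_of_isAffine _ (q + 1) q.succ_pos
  obtain ⟨a⟩ := ExtLF.nonempty_ext_internalHom E hE ((freeModOn X₀).obj ⊤) N (q + 1)
  let v : CohB1.tensorMod E ((freeModOn X₀).obj ⊤) ≅ E :=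
    (tensE E).mapIso (DQCoh.topStructIso X₀) ≪≫ tensorComm _ _ ≪≫ unitTensorIso E
  let e := (ExtLF.extCongrLeft v N (q + 1)).symm.trans (a.symm.trans (SerreDual.extHH (internalHom E N) (q + 1)))
  exact e.toEquiv.subsingleton

theorem bot_mul_sheaf {S : Scheme.{u}} (J : S.IdealSheafData) : ⊥ * J = ⊥ :=
  le_bot_iff.1 fun U => by simp

theorem comap_self {S : Scheme.{u}} (J : S.IdealSheafData) : J.comap J.subschemeι = ⊥ := by
  have h := FSchLib.ker_eq_comap_ker_comp (𝟙 J.subscheme) J.subschemeι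
  rw [Category.id_comp, Scheme.IdealSheafData.ker_subschemeι] at h
  rw [← h]
  exact le_bot_iff.1 fun U => by simp [Scheme.Hom.ker_apply]

variable {S S₀ X₀ : Scheme.{u}} [IsAffine X₀]

/-- Lifts of a smooth affine scheme along a square-zero closed immersion. -/
theorem affine_step (k : S₀ ⟶ S) [IsClosedImmersion k] (hk : k.ker ^ 2 = ⊥) (f₀ : X₀ ⟶ S₀) [Smooth f₀] :
    (∃ (X : Scheme.{u}) (f : X ⟶ S) (j : X₀ ⟶ X), Smooth f ∧ IsPullback j f₀ f k) ∧
      ∀ (X X' : Scheme.{u}) (f : X ⟶ S) (f' : X' ⟶ S) (j : X₀ ⟶ X) (j' : X₀ ⟶ X') [Flat f] [Flat f'],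
        IsPullback j f₀ f k → IsPullback j' f₀ f' k → ∃ e : X ≅ X', j ≫ e.hom = j' ∧ e.hom ≫ f' = f := by
  let I := k.ker
  let f₁ : X₀ ⟶ I.subscheme := f₀ ≫ k.toImage
  haveI : Smooth f₁ := inferInstanceAs (Smooth (_ ≫ _))
  have to' : ∀ {X : Scheme.{u}} (f : X ⟶ S) (j : X₀ ⟶ X), IsPullback j f₀ f k → IsPullback j f₁ f I.subschemeι :=
    fun f j h => h.of_iso (Iso.refl _) (Iso.refl _) (asIso k.toImage) (Iso.refl _) (by simp) (by simp [f₁])
      (by simp) (by rw [Iso.refl_hom, Category.comp_id, asIso_hom]; exact k.toImage_imageι.symm)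
  have from' : ∀ {X : Scheme.{u}} (f : X ⟶ S) (j : X₀ ⟶ X), IsPullback j f₁ f I.subschemeι → IsPullback j f₀ f k :=
    fun f j h => h.of_iso (Iso.refl _) (Iso.refl _) (asIso k.toImage).symm (Iso.refl _) (by simp) (by simp [f₁])
      (by simp) (by
        rw [Iso.refl_hom, Category.comp_id, Iso.symm_hom, asIso_inv]
        exact (IsIso.eq_inv_comp _).2 k.toImage_imageι)
  haveI := isQCoh_pullN I f₁
  haveI : X₀.IsSeparated := inferInstance
  refine ⟨?_, fun X X' f f' j j' _ _ h h' => ?_⟩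
  · obtain ⟨X, f, j, hf, hj⟩ := exists_lift_of_vanish2 I f₁ hk
      (vanish2_of_ext f₁ I.subschemeι _ (subsingleton_ext_of_isAffine f₁ _ 1))
    exact ⟨X, f, j, hf, from' f j hj⟩
  · exact exists_iso hk (to' f' j' h') (to' f j h)
      (vanish1_of_ext f₁ I.subschemeι _ (subsingleton_ext_of_isAffine f₁ _ 0))

theorem surjective_of_ker_pow_eq_bot (k : S₀ ⟶ S) [IsClosedImmersion k] {m : ℕ} (hk : k.ker ^ (m + 1) = ⊥) :
    Surjective k := by
  refine ⟨Set.range_eq_univ.1 ?_⟩
  show Set.range k = Set.univ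
  rw [FSchLib.range_eq_support_ker, ← Scheme.IdealSheafData.support_pow_succ k.ker m, hk,
    Scheme.IdealSheafData.support_bot]
  rfl

/-- Lifts of a smooth affine scheme along a nilpotent closed immersion exist and are unique. -/
theorem affine_nilpotent : ∀ (m : ℕ) {S S₀ : Scheme.{u}} (k : S₀ ⟶ S) [IsClosedImmersion k]
    (_ : k.ker ^ (m + 1) = ⊥) {X₀ : Scheme.{u}} [IsAffine X₀] (f₀ : X₀ ⟶ S₀) [Smooth f₀],
    (∃ (X : Scheme.{u}) (f : X ⟶ S) (j : X₀ ⟶ X), IsAffine X ∧ Smooth f ∧ IsPullback j f₀ f k) ∧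
      ∀ (X X' : Scheme.{u}) (f : X ⟶ S) (f' : X' ⟶ S) (j : X₀ ⟶ X) (j' : X₀ ⟶ X') [Smooth f] [Smooth f'],
        IsPullback j f₀ f k → IsPullback j' f₀ f' k → ∃ e : X ≅ X', j ≫ e.hom = j' ∧ e.hom ≫ f' = f
  | 0, S, S₀, k, _, hk, X₀, _, f₀, _ => by
    haveI := surjective_of_ker_pow_eq_bot k hk
    have h2 : k.ker ^ 2 = ⊥ := by
      rw [pow_one] at hk
      rw [pow_two, hk]
      exact bot_mul_sheaf _
    obtain ⟨⟨X, f, j, hf, hj⟩, hu⟩ := affine_step k h2 f₀
    haveI : IsClosedImmersion j := MorphismProperty.of_isPullback (P := @IsClosedImmersion) hj.flip inferInstance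
    haveI : Surjective j := MorphismProperty.of_isPullback (P := @Surjective) hj.flip inferInstance
    exact ⟨⟨X, f, j, VarietyLib.isAffine_of_surjective_closedImmersion j j.surjective, hf, hj⟩,
      fun X X' f f' j j' _ _ h h' => hu X X' f f' j j' h h'⟩
  | m + 1, S, S₀, k, _, hk, X₀, _, f₀, _ => by
    let J := k.ker ^ (m + 1)
    have hJ : J ^ 2 = ⊥ := by
      show (k.ker ^ (m + 1)) ^ 2 = ⊥
      rw [← pow_mul, show (m + 1) * 2 = m + 1 + 1 + m by ring, pow_add, hk]
      exact bot_mul_sheaf _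
    have hJk : J ≤ k.ker := (pow_le_pow_of_le_one bot_le le_top (Nat.le_add_left 1 m)).trans (pow_one k.ker).le
    let k' : S₀ ⟶ J.subscheme := IsClosedImmersion.lift J.subschemeι k (by rwa [Scheme.IdealSheafData.ker_subschemeι])
    have hk' : k' ≫ J.subschemeι = k := IsClosedImmersion.lift_fac _ _ _
    haveI : IsClosedImmersion (k' ≫ J.subschemeι) := hk'.symm ▸ inferInstance
    haveI : IsClosedImmersion k' := IsClosedImmersion.of_comp_isClosedImmersion k' J.subschemeι
    have hker : k'.ker ^ (m + 1) = ⊥ := by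
      rw [FSchLib.ker_eq_comap_ker_comp k' J.subschemeι, hk', ← FSchLib.comap_pow]
      exact comap_self J
    obtain ⟨⟨Z, g, i, hZ, hg, hi⟩, hu⟩ := affine_nilpotent m k' hker f₀
    obtain ⟨⟨X, f, j, hf, hj⟩, hu'⟩ := affine_step (X₀ := Z) J.subschemeι
      (by rw [Scheme.IdealSheafData.ker_subschemeι]; exact hJ) g
    haveI := surjective_of_ker_pow_eq_bot J.subschemeι (m := 1) (by rw [Scheme.IdealSheafData.ker_subschemeι]; exact hJ)
    haveI : IsClosedImmersion j := MorphismProperty.of_isPullback (P := @IsClosedImmersion) hj.flip inferInstance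
    haveI : Surjective j := MorphismProperty.of_isPullback (P := @Surjective) hj.flip inferInstance
    refine ⟨⟨X, f, i ≫ j, VarietyLib.isAffine_of_surjective_closedImmersion j j.surjective, hf, ?_⟩,
      fun X₁ X₂ f₁ f₂ j₁ j₂ _ _ h₁ h₂ => ?_⟩
    · have h := hi.paste_horiz hj
      rwa [hk'] at h
    have res : ∀ {X' : Scheme.{u}} (f' : X' ⟶ S) [Smooth f'] (j' : X₀ ⟶ X'), IsPullback j' f₀ f' k →
        ∃ t : Z ⟶ X', IsPullback t g f' J.subschemeι ∧ i ≫ t = j' := fun f' _ j' h' => by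
      haveI : Smooth (pullback.snd f' J.subschemeι) := inferInstance
      let l := pullback.lift j' (f₀ ≫ k') (by rw [Category.assoc, hk', h'.w]) (f := f') (g := J.subschemeι)
      have hl : IsPullback l f₀ (pullback.snd f' J.subschemeι) k' := by
        refine IsPullback.of_right ?_ (pullback.lift_snd _ _ _) (IsPullback.of_hasPullback f' J.subschemeι)
        rw [pullback.lift_fst, hk']
        exact h'
      obtain ⟨e, he, he'⟩ := hu Z _ g (pullback.snd f' J.subschemeι) i l hi hl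
      refine ⟨e.hom ≫ pullback.fst f' J.subschemeι, (IsPullback.of_hasPullback f' J.subschemeι).of_iso e.symm
        (Iso.refl _) (Iso.refl _) (Iso.refl _) (by simp) ?_ (by simp) (by simp), by rw [reassoc_of% he, pullback.lift_fst]⟩
      rw [Iso.refl_hom, Category.comp_id, Iso.symm_hom, Iso.eq_inv_comp, he']
    obtain ⟨t₁, ht₁, hit₁⟩ := res f₁ j₁ h₁
    obtain ⟨t₂, ht₂, hit₂⟩ := res f₂ j₂ h₂
    obtain ⟨e, he, he'⟩ := hu' X₁ X₂ f₁ f₂ t₁ t₂ ht₁ ht₂
    exact ⟨e, by rw [← hit₁, Category.assoc, he, hit₂], he'⟩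

end Groth.Agent.LiftObs29
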