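import Groth.Agent.LiftObs29.Ctx
import Groth.Agent.PicDef15.Cech
import Groth.Agent.PicDef15.CoboundaryOne
import Groth.Agent.FlatMor12.HomQCoh
import Groth.Agent.Props12.FinLocFree
import Groth.Agent.ExtLF.Basic
import Groth.Agent.OmegaLib.LocFree
import Groth.Agent.Omega15.ConormalSmooth
import Groth.Agent.S5005
import Mathlib.AlgebraicGeometry.Morphisms.ClosedImmersion

/-!
# Derivation families as sections of the internal Hom out of the differentials
-/

set_option autoImplicit false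
set_option backward.isDefEq.respectTransparency.types false
set_option backward.isDefEq.respectTransparency false
set_option linter.style.haveILetI false
set_option linter.unusedSectionVars false

universe u

open CategoryTheory AlgebraicGeometry TopologicalSpace Opposite
open Groth.Agent.Coherent Groth.Agent.PicLib Groth.Agent.AmpleLib

noncomputable section

namespace Groth.Agent.LiftObs29

section Const

variable {S S₀ X₀ : Scheme.{u}} (f₀ : X₀ ⟶ S₀) (ι : S₀ ⟶ S) [IsClosedImmersion ι] {N : X₀.Modules}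

theorem exists_const {T₀ : S₀.Opens} (a : Γ(S₀, T₀)) {V : X₀.Opens} (hV : V ≤ f₀ ⁻¹ᵁ T₀) {x : X₀} (hx : x ∈ V) :
    ∃ (T : S.Opens) (W : Small (f₀ ≫ ι)) (hW : W.o ≤ V) (e : W.o ≤ (f₀ ≫ ι) ⁻¹ᵁ T) (c : Γ(S, T)), x ∈ W.o ∧
      f₀.appLE T₀ W.o (hW.trans hV) a = (f₀ ≫ ι).appLE T W.o e c := by
  obtain ⟨O, hO, hOT⟩ := ι.isClosedEmbedding.isInducing.isOpen_iff.1 T₀.2
  have hzO : ι (f₀ x) ∈ O := by
    have h1 : f₀ x ∈ T₀.carrier := hV hx
    rw [← hOT] at h1
    exact h1
  obtain ⟨T, hT, hzT, hTO⟩ := Opens.isBasis_iff_nbhd.mp S.isBasis_affineOpens (U := ⟨O, hO⟩) hzO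
  have hle : ι ⁻¹ᵁ T ≤ T₀ := fun z hz => by
    show z ∈ T₀.carrier
    rw [← hOT]
    exact hTO hz
  obtain ⟨W, hxW, hW⟩ := exists_small (b := f₀ ≫ ι) (show x ∈ V ⊓ (f₀ ≫ ι) ⁻¹ᵁ T from ⟨hx, hzT⟩)
  have e : W.o ≤ (f₀ ≫ ι) ⁻¹ᵁ T := hW.trans inf_le_right
  obtain ⟨c, hc⟩ := ι.app_surjective T hT (S₀.presheaf.map (homOfLE hle).op a)
  refine ⟨T, W, hW.trans inf_le_left, e, c, hxW, ?_⟩
  have e' : W.o ≤ f₀ ⁻¹ᵁ (ι ⁻¹ᵁ T) := e
  calc f₀.appLE T₀ W.o _ a = f₀.appLE (ι ⁻¹ᵁ T) W.o e' (S₀.presheaf.map (homOfLE hle).op a) := by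
        rw [← CommRingCat.comp_apply, Scheme.Hom.map_appLE]
    _ = f₀.appLE (ι ⁻¹ᵁ T) W.o e' (ι.app T c) := by rw [hc]
    _ = (f₀ ≫ ι).appLE T W.o e c := by rw [Scheme.Hom.comp_appLE]; rfl

theorem der_const {W : X₀.Opens} (d : DerOn (f₀ ≫ ι) N W) (V : Small (f₀ ≫ ι)) (hV : V.o ≤ W) (T₀ : S₀.Opens)
    (e : V.o ≤ f₀ ⁻¹ᵁ T₀) (a : Γ(S₀, T₀)) : d.at' V hV (f₀.appLE T₀ V.o e a) = 0 := by
  refine OmegaLib.section_ext fun x hx => ?_
  obtain ⟨T, V', hV', e', c, hxV', hc⟩ := exists_const f₀ ι a e hx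
  refine ⟨V'.o, hV', hxV', ?_⟩
  rw [map_zero, show N.presheaf.map (homOfLE hV').op (d.at' V hV (f₀.appLE T₀ V.o e a)) =
    d.at' V' (hV'.trans hV) (X₀.presheaf.map (homOfLE hV').op (f₀.appLE T₀ V.o e a)) from
      (d.2.1 V' V hV hV' _).symm]
  rw [← CommRingCat.comp_apply, Scheme.Hom.appLE_map, hc]
  exact d.2.2.2 V' _ T e' c

end Const

variable {X₀ : Scheme.{u}}

/-- Restriction to an open, pushed back. -/
abbrev pushRes (N : X₀.Modules) (W : X₀.Opens) : X₀.Modules :=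
  (Scheme.Modules.pushforward W.ι).obj ((Scheme.Modules.restrictFunctor W.ι).obj N)

/-- The open of the sections of `pushRes`. -/
abbrev img (W U : X₀.Opens) : X₀.Opens := W.ι ''ᵁ (W.ι ⁻¹ᵁ U)

theorem img_le (W U : X₀.Opens) : img W U ≤ U :=
  (W.ι.image_preimage_eq_opensRange_inf U).le.trans inf_le_right

theorem le_img {W U : X₀.Opens} (h : U ≤ W) : U ≤ img W U := by
  rw [img, W.ι.image_preimage_eq_opensRange_inf, Scheme.Opens.opensRange_ι]
  exact le_inf h le_rfl

theorem smul_pushRes (N : X₀.Modules) (W U : X₀.Opens) (r : Γ(X₀, U)) (z : Γ(pushRes N W, U)) :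
    (show Γ(N, img W U) from r • z) = X₀.presheaf.map (homOfLE (img_le W U)).op r • (show Γ(N, img W U) from z) := by
  show (W.ι.appIso _).inv (W.ι.app U r) • (show Γ(N, img W U) from z) = _
  refine congrArg (· • (show Γ(N, img W U) from z)) ?_
  rw [Scheme.Opens.ι_appIso, Scheme.Opens.ι_app]
  rfl

section Bridge

variable {S S₀ : Scheme.{u}} (f₀ : X₀ ⟶ S₀) [QuasiSeparated f₀] (ι : S₀ ⟶ S) [IsClosedImmersion ι] (N : X₀.Modules)

local notation "Ω₀" => Omega.sheaf f₀

/-- The derivation family of a section of the internal Hom. -/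
def toDer (W : X₀.Opens) : Γ(internalHom Ω₀ N, W) →+ DerOn (f₀ ≫ ι) N W where
  toFun φ := ⟨fun V => AddMonoidHom.mk'
      (fun s => ev (secHom φ) V.1.o V.2 ((OmegaSh.dOmega f₀).app V.1.o s))
      (fun s t => by rw [map_add]; exact map_add ((secHom φ).1 _ _) _ _),
    fun V V' hV' h s => by
      show ev (secHom φ) V.o (h.trans hV') ((OmegaSh.dOmega f₀).app V.o (X₀.presheaf.map (homOfLE h).op s)) =
        N.presheaf.map (homOfLE h).op (ev (secHom φ) V'.o hV' ((OmegaSh.dOmega f₀).app V'.o s))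
      exact (congrArg (ev (secHom φ) V.o (h.trans hV'))
        ((OmegaSh.dOmega f₀).d_map (homOfLE h).op s)).trans (ev_res (secHom φ) hV' h _).symm,
    fun V hV r t => by
      show ev (secHom φ) V.o hV ((OmegaSh.dOmega f₀).app V.o (r * t)) = _
      rw [show (OmegaSh.dOmega f₀).app V.o (r * t) =
        r • (OmegaSh.dOmega f₀).app V.o t + t • (OmegaSh.dOmega f₀).app V.o r from (OmegaSh.dOmega f₀).d_mul r t]
      exact (map_add ((secHom φ).1 _ hV) _ _).trans (congrArg₂ (· + ·) (ev_smul_arg _ _ hV r _) (ev_smul_arg _ _ hV t _)),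
    fun V hV T e c => by
      show ev (secHom φ) V.o hV ((OmegaSh.dOmega f₀).app V.o ((f₀ ≫ ι).appLE T V.o e c)) = 0
      have e' : V.o ≤ f₀ ⁻¹ᵁ (ι ⁻¹ᵁ T) := e
      rw [show (f₀ ≫ ι).appLE T V.o e c = X₀.presheaf.map (homOfLE e').op (f₀.app (ι ⁻¹ᵁ T) (ι.app T c)) by
        rw [Scheme.Hom.comp_appLE]; rfl]
      rw [show (OmegaSh.dOmega f₀).app V.o (X₀.presheaf.map (homOfLE e').op (f₀.app (ι ⁻¹ᵁ T) (ι.app T c))) =
        (Omega.sheaf f₀).presheaf.map (homOfLE e').op ((OmegaSh.dOmega f₀).app _ (f₀.app (ι ⁻¹ᵁ T) (ι.app T c))) from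
          (OmegaSh.dOmega f₀).d_map (homOfLE e').op _]
      rw [show (OmegaSh.dOmega f₀).app _ (f₀.app (ι ⁻¹ᵁ T) (ι.app T c)) = 0 from
        (OmegaSh.dOmega f₀).d_app (X := op (ι ⁻¹ᵁ T)) _, map_zero]
      exact map_zero ((secHom φ).1 _ hV)⟩
  map_zero' := rfl
  map_add' _ _ := rfl

theorem toDer_at (W : X₀.Opens) (φ : Γ(internalHom Ω₀ N, W)) (V : Small (f₀ ≫ ι)) (hV : V.o ≤ W) (s : Γ(X₀, V.o)) :
    (toDer f₀ ι N W φ).at' V hV s = ev (secHom φ) V.o hV ((OmegaSh.dOmega f₀).app V.o s) := rfl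

theorem resD_toDer {W' W : X₀.Opens} (h : W' ≤ W) (φ : Γ(internalHom Ω₀ N, W)) :
    resD h (toDer f₀ ι N W φ) = toDer f₀ ι N W' (resM (internalHom Ω₀ N) h φ) := rfl

theorem toDer_injective (W : X₀.Opens) : Function.Injective (toDer f₀ ι N W) := by
  intro φ φ' hφ
  refine locHom_ext (φ := secHom φ) (ψ := secHom φ') fun W' hW' a => ?_
  refine OmegaLib.section_ext fun x hx => ?_
  obtain ⟨V₁, hle, hxV₁, hs⟩ := OmegaLib.exists_res_mem_span_dOmega f₀ a hx
  refine ⟨V₁, hle, hxV₁, ?_⟩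
  show resM N hle _ = resM N hle _
  rw [ev_res, ev_res]
  refine Submodule.span_induction (p := fun v _ => ev (secHom φ) V₁ (hle.trans hW') v = ev (secHom φ') V₁ _ v)
    ?_ ?_ ?_ ?_ hs
  · rintro _ ⟨r, rfl⟩
    refine OmegaLib.section_ext fun y hy => ?_
    obtain ⟨V, hyV, hV⟩ := exists_small (b := f₀ ≫ ι) hy
    refine ⟨V.o, hV, hyV, ?_⟩
    show resM N hV _ = resM N hV _
    rw [ev_res, ev_res]
    have h1 := congrArg (fun d => d.at' V (hV.trans (hle.trans hW')) (X₀.presheaf.map (homOfLE hV).op r)) hφ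
    simp only [toDer_at] at h1
    rw [show (OmegaSh.dOmega f₀).app V.o (X₀.presheaf.map (homOfLE hV).op r) =
      (Omega.sheaf f₀).presheaf.map (homOfLE hV).op ((OmegaSh.dOmega f₀).app V₁ r) from
        (OmegaSh.dOmega f₀).d_map (homOfLE hV).op r] at h1
    exact h1
  · exact (map_zero ((secHom φ).1 _ _)).trans (map_zero ((secHom φ').1 _ _)).symm
  · intro a b _ _ ha hb
    exact (map_add ((secHom φ).1 _ _) a b).trans ((congrArg₂ (· + ·) ha hb).trans (map_add ((secHom φ').1 _ _) a b).symm)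
  · intro r a _ ha
    rw [ev_smul_arg, ev_smul_arg, ha]

theorem toDer_surjective (W : X₀.Opens) : Function.Surjective (toDer f₀ ι N W) := by
  intro d
  have hW : ∀ U : X₀.Opens, img W U ≤ W := fun U => Scheme.Opens.ι_image_le _ _
  have hex : ∀ (U : X₀.Opens) (s : Γ(X₀, U)), ∃ z : Γ(N, img W U), ∀ (V : Small (f₀ ≫ ι)) (hV : V.o ≤ img W U),
      N.presheaf.map (homOfLE hV).op z =
        d.at' V (hV.trans (hW U)) (X₀.presheaf.map (homOfLE (hV.trans (img_le W U))).op s) := fun U s =>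
    exists_glue_sec _ fun V V' hV' h => by
      refine Eq.trans (congrArg (d.at' V _) ?_) (d.2.1 V V' (hV'.trans (hW U)) h _)
      rw [← CommRingCat.comp_apply, ← Functor.map_comp]
      rfl
  choose z hz using hex
  have hzu : ∀ (U : X₀.Opens) (s : Γ(X₀, U)) (y : Γ(N, img W U)), (∀ (V : Small (f₀ ≫ ι)) (hV : V.o ≤ img W U),
      N.presheaf.map (homOfLE hV).op y =
        d.at' V (hV.trans (hW U)) (X₀.presheaf.map (homOfLE (hV.trans (img_le W U))).op s)) → z U s = y :=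
    fun U s y hy => sec_ext fun V hV => (hz U s V hV).trans (hy V hV).symm
  let D : OmegaSh.Der f₀ (pushRes N W) :=
    { d := fun {U} => AddMonoidHom.mk' (fun s => (show Γ(pushRes N W, U.unop) from z U.unop s)) fun s t =>
        hzu _ _ _ fun V hV => by
          show N.presheaf.map _ (z U.unop s + z U.unop t) = _
          rw [map_add, hz, hz, map_add, map_add]
      d_mul := fun {U} s t => hzu _ _ _ fun V hV => by
        show N.presheaf.map (homOfLE hV).op
          ((show Γ(N, img W U.unop) from (show Γ(X₀, U.unop) from s) • (show Γ(pushRes N W, U.unop) from z U.unop t)) +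
            (show Γ(N, img W U.unop) from (show Γ(X₀, U.unop) from t) • (show Γ(pushRes N W, U.unop) from z U.unop s))) = _
        rw [smul_pushRes, smul_pushRes, map_add, map_mul, Scheme.Modules.map_smul, Scheme.Modules.map_smul]
        rw [show N.presheaf.map (homOfLE hV).op (show Γ(N, img W U.unop) from z U.unop t) = _ from hz U.unop t V hV,
          show N.presheaf.map (homOfLE hV).op (show Γ(N, img W U.unop) from z U.unop s) = _ from hz U.unop s V hV]
        rw [← CommRingCat.comp_apply, ← Functor.map_comp, ← CommRingCat.comp_apply, ← Functor.map_comp]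
        exact (d.2.2.1 V _ _ _).symm
      d_map := fun {U U'} g s => hzu _ _ _ fun V hV => by
        show N.presheaf.map (homOfLE hV).op (N.presheaf.map
          (homOfLE (W.ι.image_mono (W.ι.preimage_mono (leOfHom g.unop)))).op (z U.unop s)) = _
        rw [res_res, hz]
        refine congrArg (d.at' V _) ?_
        rw [← CommRingCat.comp_apply, ← Functor.map_comp]
        rfl
      d_app := fun {T₀} a => hzu _ _ _ fun V hV => by
        rw [map_zero]
        refine Eq.symm ?_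
        show d.at' V _ (X₀.presheaf.map _ (f₀.app T₀.unop a)) = 0
        exact der_const f₀ ι d V _ T₀.unop (hV.trans (img_le W _)) a }
  obtain ⟨α, hα, -⟩ := S5005.result f₀ (pushRes N W) D
  have hαd : ∀ (U : X₀.Opens) (s : Γ(X₀, U)),
      (show Γ(N, img W U) from α.app U ((OmegaSh.dOmega f₀).app U s)) = z U s :=
    fun U s => congrArg (fun E : OmegaSh.Der f₀ (pushRes N W) => (show Γ(N, img W U) from E.app U s)) hα
  refine ⟨(show locHom Ω₀ N W from ⟨fun W' hW' => AddMonoidHom.mk'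
      (fun a => N.presheaf.map (homOfLE (le_img hW')).op (show Γ(N, img W W') from α.app W' a))
      (fun a b => by rw [map_add]; exact map_add _ _ _), fun W' hW' r a => ?_, fun W₁ W₂ hW₁ h a => ?_⟩), ?_⟩
  · show N.presheaf.map (homOfLE (le_img hW')).op (show Γ(N, img W W') from α.app W' (r • a)) = _
    rw [Scheme.Modules.Hom.app_smul, smul_pushRes, Scheme.Modules.map_smul, ← CommRingCat.comp_apply,
      ← Functor.map_comp, show (homOfLE (img_le W W')).op ≫ (homOfLE (le_img hW')).op = 𝟙 (op W') from rfl,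
      CategoryTheory.Functor.map_id]
    rfl
  · show resM N h (N.presheaf.map (homOfLE (le_img hW₁)).op (show Γ(N, img W W₁) from α.app W₁ a)) =
      N.presheaf.map (homOfLE (le_img (h.trans hW₁))).op (show Γ(N, img W W₂) from α.app W₂ (resM Ω₀ h a))
    rw [show (show Γ(N, img W W₂) from α.app W₂ (resM Ω₀ h a)) =
      N.presheaf.map (homOfLE (W.ι.image_mono (W.ι.preimage_mono h))).op (show Γ(N, img W W₁) from α.app W₁ a) from
        congr($(α.mapPresheaf.naturality (homOfLE h).op) a)]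
    exact (res_res N _ _ _).trans (res_res N _ _ _).symm
  · refine DerOn.ext' fun V hV s => ?_
    rw [toDer_at]
    show N.presheaf.map (homOfLE (le_img hV)).op (show Γ(N, img W V.o) from α.app V.o _) = _
    rw [hαd, hz]
    refine congrArg (d.at' V _) ?_
    rw [show (homOfLE ((le_img hV).trans (img_le W V.o))).op = 𝟙 (op V.o) from rfl, CategoryTheory.Functor.map_id]
    rfl

theorem derOn_top_eq_zero (h0 : Subsingleton (Omega.sheaf f₀ ⟶ N)) (d : DerOn (f₀ ≫ ι) N ⊤) : d = 0 := by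
  obtain ⟨φ, rfl⟩ := toDer_surjective f₀ ι N ⊤ d
  let β : Omega.sheaf f₀ ⟶ N := ⟨PresheafOfModules.homMk
    { app := fun U => AddCommGrpCat.ofHom ((secHom φ).1 U.unop le_top)
      naturality := fun U _ i => AddCommGrpCat.hom_ext (AddMonoidHom.ext fun a =>
        (ev_res (secHom φ) le_top (leOfHom i.unop) a).symm) }
    (fun U r a => ev_smul_arg (secHom φ) U.unop le_top r a)⟩
  refine DerOn.ext' fun V hV s => ?_
  rw [toDer_at, DerOn.at_zero]
  exact congrArg (fun g : Omega.sheaf f₀ ⟶ N => g.app V.o ((OmegaSh.dOmega f₀).app V.o s)) (h0.elim β 0)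

theorem isFinLocFree_omega [Smooth f₀] : FlatMod.IsFinLocFree (Omega.sheaf f₀) :=
  OmegaLib.isFinLocFree_of_isFormallySmoothHom (S5005.result _) (Omega15.isFormallySmoothHom_of_smooth _)

theorem subsingleton_HH [Smooth f₀] [HasExt.{u} X₀.Modules] {q : ℕ}
    (h : Subsingleton (Abelian.Ext.{u} (Omega.sheaf f₀) N q)) :
    Subsingleton (Coh.HH X₀ (internalHom (Omega.sheaf f₀) N) q) := by
  let E := Omega.sheaf f₀
  obtain ⟨a⟩ := ExtLF.nonempty_ext_internalHom E (isFinLocFree_omega f₀) ((freeModOn X₀).obj ⊤) N q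
  let v : CohB1.tensorMod E ((freeModOn X₀).obj ⊤) ≅ E :=
    (tensE E).mapIso (DQCoh.topStructIso X₀) ≪≫ tensorComm _ _ ≪≫ unitTensorIso E
  let e := (ExtLF.extCongrLeft v N q).symm.trans (a.symm.trans (SerreDual.extHH (internalHom E N) q))
  exact e.toEquiv.symm.subsingleton

/-- The inverse of `toDer`. -/
def ofDer (W : X₀.Opens) (d : DerOn (f₀ ≫ ι) N W) : Γ(internalHom Ω₀ N, W) :=
  (toDer_surjective f₀ ι N W d).choose

theorem toDer_ofDer (W : X₀.Opens) (d : DerOn (f₀ ≫ ι) N W) : toDer f₀ ι N W (ofDer f₀ ι N W d) = d :=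
  (toDer_surjective f₀ ι N W d).choose_spec

theorem vanish1_of_ext [Smooth f₀] [HasExt.{u} X₀.Modules]
    (h : Subsingleton (Abelian.Ext.{u} (Omega.sheaf f₀) N 1)) : Vanish1 (f₀ ≫ ι) N := by
  intro κ U hU c hc
  obtain ⟨e, he⟩ := PicDef15.exists_coboundary_one U hU (Coh.toAb (internalHom Ω₀ N)) (subsingleton_HH f₀ N h)
    (fun i j => ofDer f₀ ι N _ (c i j)) (fun i j k W hi hj hk => by
      refine toDer_injective f₀ ι N W ?_
      rw [map_zero]
      refine Eq.trans ?_ (hc i j k W hi hj hk)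
      show toDer f₀ ι N W (resM _ (le_inf hj hk) (ofDer f₀ ι N _ (c j k)) - resM _ (le_inf hi hk)
        (ofDer f₀ ι N _ (c i k)) + resM _ (le_inf hi hj) (ofDer f₀ ι N _ (c i j))) = _
      rw [map_add, map_sub, ← resD_toDer, ← resD_toDer, ← resD_toDer, toDer_ofDer, toDer_ofDer, toDer_ofDer])
  refine ⟨fun i => toDer f₀ ι N _ (e i), fun i j W hi hj => ?_⟩
  rw [resD_toDer, resD_toDer, ← map_sub]
  refine Eq.trans ?_ (congrArg (toDer f₀ ι N W) (he i j W hi hj))
  show _ = toDer f₀ ι N W (resM _ (le_inf hi hj) (ofDer f₀ ι N _ (c i j)))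
  rw [← resD_toDer, toDer_ofDer]

theorem vanish2_of_ext [Smooth f₀] [X₀.IsSeparated] [HasExt.{u} X₀.Modules] [Coh.IsQCoh N]
    (h : Subsingleton (Abelian.Ext.{u} (Omega.sheaf f₀) N 2)) : Vanish2 (f₀ ≫ ι) N := by
  intro κ U hU hUa c hc
  have : Coh.IsQCoh (Omega.sheaf f₀) := OmegaLib.isQCoh_of_isUniversal (OmegaLib.isUniversal_dOmega f₀)
  have : Coh.IsQCoh (internalHom Ω₀ N) :=
    FlatMor12.isQCoh_internalHom_of_isFP (Props12.isFP_of_isFinLocFree _ (isFinLocFree_omega f₀))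
  obtain ⟨e, he⟩ := PicDef15.exists_coboundary_two U hU hUa (internalHom Ω₀ N) (subsingleton_HH f₀ N h)
    (fun i j k => ofDer f₀ ι N _ (c i j k)) (fun i j k l W hi hj hk hl => by
      refine toDer_injective f₀ ι N W ?_
      rw [map_sub, map_add, map_sub, map_zero, ← resD_toDer, ← resD_toDer, ← resD_toDer, ← resD_toDer,
        toDer_ofDer, toDer_ofDer, toDer_ofDer, toDer_ofDer]
      exact hc i j k l W hi hj hk hl)
  refine ⟨fun i j => toDer f₀ ι N _ (e i j), fun i j k W hi hj hk => ?_⟩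
  rw [resD_toDer, resD_toDer, resD_toDer, ← map_sub, ← map_add, ← he i j k W hi hj hk, ← resD_toDer, toDer_ofDer]

end Bridge

end Groth.Agent.LiftObs29
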