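import Groth.Agent.LiftObs29.Obs
import Mathlib.AlgebraicGeometry.ColimitsOver
import Mathlib.AlgebraicGeometry.Morphisms.Smooth

/-!
# The scheme of glued thickenings
-/

set_option autoImplicit false
set_option backward.isDefEq.respectTransparency.types false
set_option backward.isDefEq.respectTransparency false
set_option linter.style.haveILetI false
set_option linter.unusedSectionVars false

universe u

open CategoryTheory CategoryTheory.Limits AlgebraicGeometry TopologicalSpace Opposite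

noncomputable section

namespace Groth.Agent.LiftObs29

variable {S S₀ X₀ : Scheme.{u}} {f₀ : X₀ ⟶ S₀} {ι : S₀ ⟶ S} {N : X₀.Modules} {G : GenData f₀ ι N}
  {κ : Type u} {U : κ → X₀.Opens}

namespace Glue

variable (D : Glue G κ U)

/-- Small affines inside a member of the cover. -/
abbrev Piece (f₀ : X₀ ⟶ S₀) (ι : S₀ ⟶ S) (U : κ → X₀.Opens) : Type u :=
  {V : Small (f₀ ≫ ι) // ∃ i, V.o ≤ U i}

/-- The chosen member. -/
def idx (V : Piece f₀ ι U) : κ := V.2.choose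

theorem idx_le (V : Piece f₀ ι U) : V.1.o ≤ U (idx V) := V.2.choose_spec

theorem le_of_hom {V V' : Piece f₀ ι U} (g : V ⟶ V') : V.1.o ≤ V'.1.o := leOfHom g

/-- The ring map of an inclusion of pieces. -/
def resP {V V' : Piece f₀ ι U} (h : V.1.o ≤ V'.1.o) :
    (D.P (idx V')).R V'.1 (idx_le V') ⟶ (D.P (idx V)).R V.1 (idx_le V) :=
  (D.P (idx V')).res h (idx_le V') ≫ D.θ (idx V') (idx V) V.1 (h.trans (idx_le V')) (idx_le V)

theorem resP_self (V : Piece f₀ ι U) : D.resP (le_refl V.1.o) = 𝟙 _ := by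
  rw [resP, (D.P (idx V)).res_self, D.θ_self, Category.comp_id]

theorem resP_comp {V V' V'' : Piece f₀ ι U} (h : V.1.o ≤ V'.1.o) (h' : V'.1.o ≤ V''.1.o) :
    D.resP h' ≫ D.resP h = D.resP (h.trans h') := by
  simp only [resP, Category.assoc]
  rw [← Category.assoc (D.θ _ _ _ _ _), D.θ_res (idx V'') (idx V') h (h'.trans (idx_le V'')) (idx_le V'),
    Category.assoc, D.θ_comp, ← Category.assoc, (D.P (idx V'')).res_res]

/-- The affine pieces. -/
def F : Piece f₀ ι U ⥤ Scheme.{u} where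
  obj V := Spec ((D.P (idx V)).R V.1 (idx_le V))
  map g := Spec.map (D.resP (le_of_hom g))
  map_id V := by rw [D.resP_self, Spec.map_id]
  map_comp g g' := by rw [← Spec.map_comp, D.resP_comp]

/-- An open in its piece. -/
def jV (V : Piece f₀ ι U) : V.1.o.toScheme ⟶ D.F.obj V :=
  V.1.hV.isoSpec.hom ≫ Spec.map ((D.P (idx V)).π V.1 (idx_le V))

theorem resP_π {V V' : Piece f₀ ι U} (h : V.1.o ≤ V'.1.o) :
    D.resP h ≫ (D.P (idx V)).π V.1 (idx_le V) =
      (D.P (idx V')).π V'.1 (idx_le V') ≫ X₀.presheaf.map (homOfLE h).op := by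
  rw [resP, Category.assoc, D.θ_π, (D.P (idx V')).π_res]

theorem jV_natural {V V' : Piece f₀ ι U} (g : V ⟶ V') :
    X₀.homOfLE (le_of_hom g) ≫ D.jV V' = D.jV V ≫ D.F.map g := by
  show X₀.homOfLE _ ≫ V'.1.hV.isoSpec.hom ≫ Spec.map _ = (V.1.hV.isoSpec.hom ≫ Spec.map _) ≫ Spec.map _
  rw [Category.assoc, ← Spec.map_comp, D.resP_π, Spec.map_comp, IsAffineOpen.isoSpec_hom, IsAffineOpen.isoSpec_hom,
    Scheme.Opens.toSpecΓ_SpecMap_presheaf_map_assoc]

theorem bijective_jV (V : Piece f₀ ι U) : Function.Bijective (D.jV V) := by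
  have hc : IsClosedImmersion (Spec.map ((D.P (idx V)).π V.1 (idx_le V))) :=
    IsClosedImmersion.spec_of_surjective _ ((D.P (idx V)).π_surj V.1 (idx_le V))
  have h1 : Function.Bijective (Spec.map ((D.P (idx V)).π V.1 (idx_le V))) :=
    ⟨hc.base_closed.isEmbedding.injective, (D.P (idx V)).surjective_spec_π V.1 (idx_le V)⟩
  exact h1.comp (Scheme.homeoOfIso V.1.hV.isoSpec).bijective

instance isOpenImmersion_map {V V' : Piece f₀ ι U} (g : V ⟶ V') : IsOpenImmersion (D.F.map g) := by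
  show IsOpenImmersion (Spec.map (D.resP (le_of_hom g)))
  rw [resP, Spec.map_comp]
  haveI := (D.P (idx V')).openImm (le_of_hom g) (idx_le V')
  haveI : IsIso (D.θ (idx V') (idx V) V.1 ((le_of_hom g).trans (idx_le V')) (idx_le V)) :=
    (ConcreteCategory.isIso_iff_bijective _).2 (D.bij _ _ _ _ _)
  infer_instance

theorem exists_piece {W : X₀.Opens} {a : X₀} (ha : a ∈ W) (i : κ) (hi : W ≤ U i) :
    ∃ V : Piece f₀ ι U, a ∈ V.1.o ∧ V.1.o ≤ W := by
  obtain ⟨V, haV, hV⟩ := exists_small (b := f₀ ≫ ι) ha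
  exact ⟨⟨V, i, hV.trans hi⟩, haV, hV⟩

instance isLocallyDirected : (D.F ⋙ Scheme.forget).IsLocallyDirected where
  cond {i j l} fi fj xi xj h := by
    obtain ⟨a, rfl⟩ := (D.bijective_jV i).2 xi
    obtain ⟨b, rfl⟩ := (D.bijective_jV j).2 xj
    change D.F.map fi (D.jV i a) = D.F.map fj (D.jV j b) at h
    rw [← Scheme.Hom.comp_apply, ← Scheme.Hom.comp_apply, ← D.jV_natural, ← D.jV_natural, Scheme.Hom.comp_apply,
      Scheme.Hom.comp_apply] at h
    have hab : a.1 = b.1 := by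
      have := congrArg Subtype.val ((D.bijective_jV l).1 h)
      simpa using this
    obtain ⟨V, haV, hle⟩ := exists_piece (f₀ := f₀) (ι := ι) (show a.1 ∈ i.1.o ⊓ j.1.o from ⟨a.2, hab ▸ b.2⟩)
      (idx i) (inf_le_left.trans (idx_le i))
    let gi : V ⟶ i := homOfLE (hle.trans inf_le_left : V.1.o ≤ i.1.o)
    let gj : V ⟶ j := homOfLE (hle.trans inf_le_right : V.1.o ≤ j.1.o)
    refine ⟨V, gi, gj, D.jV V ⟨a.1, haV⟩, ?_, ?_⟩
    · show D.F.map gi (D.jV _ _) = D.jV i a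
      rw [← Scheme.Hom.comp_apply, ← D.jV_natural, Scheme.Hom.comp_apply]
      congr 1
      exact Subtype.ext (by simp)
    · show D.F.map gj (D.jV _ _) = D.jV j b
      rw [← Scheme.Hom.comp_apply, ← D.jV_natural, Scheme.Hom.comp_apply]
      congr 1
      exact Subtype.ext (by simpa using hab)

/-- The glued scheme. -/
abbrev total : Scheme.{u} := colimit D.F

theorem resP_str {V V' : Piece f₀ ι U} (h : V.1.o ≤ V'.1.o) :
    Spec.map (D.resP h) ≫ (D.P (idx V')).str V'.1 (idx_le V') = (D.P (idx V)).str V.1 (idx_le V) := by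
  rw [resP, Spec.map_comp, Category.assoc, (D.P (idx V')).str_res, D.θ_str]

/-- The structure map. -/
def toBase : D.total ⟶ S :=
  colimit.desc D.F
    { pt := S
      ι :=
        { app := fun V => (D.P (idx V)).str V.1 (idx_le V)
          naturality := fun V V' g => by
            show Spec.map (D.resP (le_of_hom g)) ≫ _ = (D.P (idx V)).str V.1 (idx_le V) ≫ 𝟙 _
            rw [Category.comp_id, D.resP_str] } }

theorem ι_toBase (V : Piece f₀ ι U) : colimit.ι D.F V ≫ D.toBase = (D.P (idx V)).str V.1 (idx_le V) :=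
  colimit.ι_desc (F := D.F) _ V

variable (hU : ⨆ i, U i = ⊤)

include hU in
theorem exists_piece' {W : X₀.Opens} {a : X₀} (ha : a ∈ W) :
    ∃ V : Piece f₀ ι U, a ∈ V.1.o ∧ V.1.o ≤ W := by
  obtain ⟨i, hi⟩ := Opens.mem_iSup.1 (show a ∈ ⨆ i, U i by rw [hU]; trivial)
  obtain ⟨V, h1, h2⟩ := exists_piece (f₀ := f₀) (ι := ι) (show a ∈ W ⊓ U i from ⟨ha, hi⟩) i inf_le_right
  exact ⟨V, h1, h2.trans inf_le_left⟩

include hU in
theorem exists_incl : ∃ j : X₀ ⟶ D.total, ∀ V : Piece f₀ ι U, V.1.o.ι ≫ j = D.jV V ≫ colimit.ι D.F V := by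
  have hcov : ⨆ V : Piece f₀ ι U, V.1.o = ⊤ := top_le_iff.1 fun a _ => by
    obtain ⟨V, h1, -⟩ := exists_piece' (f₀ := f₀) (ι := ι) hU (Opens.mem_top a)
    exact Opens.mem_iSup.2 ⟨V, h1⟩
  let 𝒰 := X₀.openCoverOfIsOpenCover (fun V : Piece f₀ ι U => V.1.o) hcov
  refine ⟨𝒰.glueMorphisms (fun V => D.jV V ≫ colimit.ι D.F V) fun V V' => ?_,
    fun V => 𝒰.ι_glueMorphisms _ _ V⟩
  let W : X₀.Opens := V.1.o ⊓ V'.1.o
  have hW : ∀ (h : W ≤ V.1.o) (h' : W ≤ V'.1.o),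
      X₀.homOfLE h ≫ D.jV V ≫ colimit.ι D.F V = X₀.homOfLE h' ≫ D.jV V' ≫ colimit.ι D.F V' := by
    intro h h'
    choose V'' hz hle using fun z : W.toScheme => exists_piece' (f₀ := f₀) (ι := ι) hU z.2
    refine Scheme.Cover.hom_ext (W.toScheme.openCoverOfIsOpenCover (fun z : W.toScheme => W.ι ⁻¹ᵁ (V'' z).1.o)
      (top_le_iff.1 fun z _ => Opens.mem_iSup.2 ⟨z, hz z⟩)) _ _ fun z => ?_
    let g : V'' z ⟶ V := homOfLE ((hle z).trans h : (V'' z).1.o ≤ V.1.o)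
    let g' : V'' z ⟶ V' := homOfLE ((hle z).trans h' : (V'' z).1.o ≤ V'.1.o)
    let l : (W.ι ⁻¹ᵁ (V'' z).1.o).toScheme ⟶ (V'' z).1.o.toScheme :=
      IsOpenImmersion.lift (V'' z).1.o.ι ((W.ι ⁻¹ᵁ (V'' z).1.o).ι ≫ W.ι) (by
        rintro _ ⟨p, rfl⟩
        rw [Scheme.Opens.range_ι]
        exact p.2)
    have hl : ∀ {V₁ : Piece f₀ ι U} (h₁ : W ≤ V₁.1.o) (g₁ : V'' z ⟶ V₁),
        (W.ι ⁻¹ᵁ (V'' z).1.o).ι ≫ X₀.homOfLE h₁ = l ≫ X₀.homOfLE (le_of_hom g₁) := fun h₁ g₁ => by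
      rw [← cancel_mono (Scheme.Opens.ι _), Category.assoc, Category.assoc, Scheme.homOfLE_ι, Scheme.homOfLE_ι,
        IsOpenImmersion.lift_fac]
    show (W.ι ⁻¹ᵁ (V'' z).1.o).ι ≫ _ = (W.ι ⁻¹ᵁ (V'' z).1.o).ι ≫ _
    rw [reassoc_of% (hl h g), reassoc_of% (hl h' g'), reassoc_of% (D.jV_natural g), reassoc_of% (D.jV_natural g'),
      colimit.w D.F g, colimit.w D.F g']
  let l : pullback V.1.o.ι V'.1.o.ι ⟶ W.toScheme :=
    IsOpenImmersion.lift W.ι (pullback.fst V.1.o.ι V'.1.o.ι ≫ V.1.o.ι) (by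
      rintro _ ⟨p, rfl⟩
      rw [Scheme.Opens.range_ι]
      refine ⟨(pullback.fst V.1.o.ι V'.1.o.ι p).2, ?_⟩
      show (pullback.fst V.1.o.ι V'.1.o.ι ≫ V.1.o.ι) p ∈ V'.1.o
      rw [pullback.condition]
      exact (pullback.snd V.1.o.ι V'.1.o.ι p).2)
  have h1 : pullback.fst V.1.o.ι V'.1.o.ι = l ≫ X₀.homOfLE inf_le_left := by
    rw [← cancel_mono V.1.o.ι, Category.assoc, Scheme.homOfLE_ι, IsOpenImmersion.lift_fac]
  have h2 : pullback.snd V.1.o.ι V'.1.o.ι = l ≫ X₀.homOfLE inf_le_right := by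
    rw [← cancel_mono V'.1.o.ι, Category.assoc, Scheme.homOfLE_ι, IsOpenImmersion.lift_fac, pullback.condition]
  show pullback.fst V.1.o.ι V'.1.o.ι ≫ _ = pullback.snd V.1.o.ι V'.1.o.ι ≫ _
  rw [h1, h2, Category.assoc, Category.assoc, hW]

include hU in
theorem preimage_ι {j : X₀ ⟶ D.total} (hj : ∀ V : Piece f₀ ι U, V.1.o.ι ≫ j = D.jV V ≫ colimit.ι D.F V)
    (V : Piece f₀ ι U) : j ⁻¹ᵁ (colimit.ι D.F V).opensRange = V.1.o := by
  ext a
  constructor
  · rintro ⟨b, hb⟩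
    obtain ⟨c, rfl⟩ := (D.bijective_jV V).2 b
    obtain ⟨V₁, haV₁, -⟩ := exists_piece' (f₀ := f₀) (ι := ι) hU (Opens.mem_top a)
    have ha : j a = colimit.ι D.F V₁ (D.jV V₁ ⟨a, haV₁⟩) := congr($(hj V₁) ⟨a, haV₁⟩)
    obtain ⟨l, fl, fl', z, hz, hz'⟩ := (Scheme.IsLocallyDirected.ι_eq_ι_iff D.F).1 (hb.trans ha)
    obtain ⟨d, rfl⟩ := (D.bijective_jV l).2 z
    rw [← Scheme.Hom.comp_apply, ← D.jV_natural, Scheme.Hom.comp_apply] at hz hz'
    have h1 : d.1 = c.1 := by simpa using congrArg Subtype.val ((D.bijective_jV V).1 hz)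
    have h2 : d.1 = a := by simpa using congrArg Subtype.val ((D.bijective_jV V₁).1 hz')
    show a ∈ V.1.o
    rw [← h2, h1]
    exact c.2
  · intro ha
    exact ⟨D.jV V ⟨a, ha⟩, congr($((hj V).symm) ⟨a, ha⟩)⟩

theorem smooth_toBase (hsm : ∀ i V hV, Smooth ((D.P i).str V hV)) : Smooth D.toBase := by
  refine IsZariskiLocalAtSource.of_openCover (Scheme.IsLocallyDirected.openCover D.F) fun V => ?_
  show Smooth (colimit.ι D.F V ≫ D.toBase)
  rw [ι_toBase]
  exact hsm _ _ _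

include hU in
theorem exists_isPullback : ∃ j : X₀ ⟶ D.total, IsPullback j f₀ D.toBase ι := by
  obtain ⟨j, hj⟩ := D.exists_incl hU
  refine ⟨j, Scheme.isPullback_of_openCover j f₀ D.toBase ι (Scheme.IsLocallyDirected.openCover D.F) fun V => ?_⟩
  have hsq : IsPullback (D.jV V) V.1.o.ι (colimit.ι D.F V) j :=
    IsOpenImmersion.isPullback (D.jV V) V.1.o.ι (colimit.ι D.F V) j (hj V)
      ((D.preimage_ι hU hj V).trans (Scheme.Opens.opensRange_ι V.1.o).symm)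
  have h0 : IsPullback (D.jV V) (V.1.o.ι ≫ f₀) (colimit.ι D.F V ≫ D.toBase) ι := by
    rw [ι_toBase]; exact (D.P (idx V)).pull V.1 (idx_le V)
  refine h0.of_iso hsq.flip.isoPullback (Iso.refl _) (Iso.refl _) (Iso.refl _) ?_ ?_ (by simp) (by simp)
  · simp [Scheme.Cover.pullbackHom]
    exact (hsq.flip.isoPullback_hom_snd).symm
  · simp only [Iso.refl_hom, Category.comp_id]
    exact (congrArg (· ≫ f₀) hsq.flip.isoPullback_hom_fst).symm.trans (Category.assoc _ _ _)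

end Glue

end Groth.Agent.LiftObs29
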