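import Groth.Agent.OmegaLib.Der
import Mathlib.AlgebraicGeometry.AffineScheme

/-!
# Obstruction theory for smooth lifts: small affines and derivation families
-/

set_option autoImplicit false
set_option backward.isDefEq.respectTransparency.types false
set_option backward.isDefEq.respectTransparency false
set_option linter.style.haveILetI false

universe u

open CategoryTheory AlgebraicGeometry TopologicalSpace Opposite

noncomputable section

namespace Groth.Agent.LiftObs29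

variable {S X₀ : Scheme.{u}} (b : X₀ ⟶ S) (N : X₀.Modules)

/-- Affine opens whose image lies in an affine open of the base. -/
abbrev Small : Type u := {V : X₀.affineOpens // ∃ T : S.affineOpens, V.1 ≤ b ⁻¹ᵁ T.1}

variable {b} in
/-- The underlying open. -/
abbrev Small.o (V : Small b) : X₀.Opens := V.1.1

variable {b} in
theorem Small.hV (V : Small b) : IsAffineOpen V.o := V.1.2

theorem isBasis_small : Opens.IsBasis (Set.range fun V : Small b => V.o) := by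
  rw [Opens.isBasis_iff_nbhd]
  intro W z hz
  obtain ⟨T, hT, hzT, -⟩ := Opens.isBasis_iff_nbhd.mp S.isBasis_affineOpens (Opens.mem_top (b z))
  obtain ⟨V, hV, hzV, hle⟩ := Opens.isBasis_iff_nbhd.mp X₀.isBasis_affineOpens
    (show z ∈ W ⊓ b ⁻¹ᵁ T from ⟨hz, hzT⟩)
  exact ⟨V, ⟨⟨⟨V, hV⟩, ⟨T, hT⟩, hle.trans inf_le_right⟩, rfl⟩, hzV, hle.trans inf_le_left⟩

variable {b} in
theorem exists_small {W : X₀.Opens} {z : X₀} (hz : z ∈ W) : ∃ V : Small b, z ∈ V.o ∧ V.o ≤ W := by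
  obtain ⟨_, ⟨V, rfl⟩, hzV, hle⟩ := Opens.isBasis_iff_nbhd.mp (isBasis_small b) hz
  exact ⟨V, hzV, hle⟩

/-- An affine open inside a small one. -/
def shrink {b : X₀ ⟶ S} (V : Small b) {W : X₀.Opens} (hW : IsAffineOpen W) (h : W ≤ V.o) : Small b :=
  ⟨⟨W, hW⟩, V.2.choose, h.trans V.2.choose_spec⟩

variable {b N} in
theorem sec_ext {W : X₀.Opens} {z z' : Γ(N, W)}
    (h : ∀ (V : Small b) (hV : V.o ≤ W), N.presheaf.map (homOfLE hV).op z = N.presheaf.map (homOfLE hV).op z') :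
    z = z' :=
  OmegaLib.section_ext fun x hx => by
    obtain ⟨V, hxV, hV⟩ := exists_small (b := b) hx
    exact ⟨V.o, hV, hxV, h V hV⟩

theorem res_res {U V W : X₀.Opens} (h : V ≤ U) (h' : W ≤ V) (z : Γ(N, U)) :
    N.presheaf.map (homOfLE h').op (N.presheaf.map (homOfLE h).op z) =
      N.presheaf.map (homOfLE (h'.trans h)).op z :=
  (ConcreteCategory.congr_hom (N.presheaf.map_comp (homOfLE h).op (homOfLE h').op) z).symm

variable {b N} in
/-- Compatible sections on the small affines inside an open glue. -/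
theorem exists_glue_sec {W : X₀.Opens} (z : ∀ V : Small b, V.o ≤ W → Γ(N, V.o))
    (hz : ∀ (V V' : Small b) (hV' : V'.o ≤ W) (h : V.o ≤ V'.o),
      z V (h.trans hV') = N.presheaf.map (homOfLE h).op (z V' hV')) :
    ∃ s : Γ(N, W), ∀ (V : Small b) (hV : V.o ≤ W), N.presheaf.map (homOfLE hV).op s = z V hV := by
  let G : TopCat.Sheaf Ab.{u} X₀.toTopCat := ⟨N.presheaf, N.isSheaf⟩
  obtain ⟨s, hs, -⟩ := TopCat.Sheaf.existsUnique_gluing' G (fun V : {V : Small b // V.o ≤ W} => V.1.o) W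
    (fun V => homOfLE V.2) (fun x hx => by
      obtain ⟨V, hxV, hV⟩ := exists_small (b := b) (show x ∈ W from hx)
      exact Opens.mem_iSup.2 ⟨⟨V, hV⟩, hxV⟩)
    (fun V => z V.1 V.2) (fun V V' => by
      show N.presheaf.map (homOfLE inf_le_left).op (z V.1 V.2) = N.presheaf.map (homOfLE inf_le_right).op (z V'.1 V'.2)
      refine sec_ext (b := b) fun V'' hV'' => ?_
      rw [res_res, res_res, ← hz V'' V.1 V.2 (hV''.trans inf_le_left), ← hz V'' V'.1 V'.2 (hV''.trans inf_le_right)])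
  exact ⟨s, fun V hV => hs ⟨V, hV⟩⟩

/-- Families of derivations on the small affines inside an open, killing the constants. -/
def derSub (W : X₀.Opens) : AddSubgroup (∀ V : {V : Small b // V.o ≤ W}, Γ(X₀, V.1.o) →+ Γ(N, V.1.o)) where
  carrier := {δ |
    (∀ (V V' : Small b) (hV' : V'.o ≤ W) (h : V.o ≤ V'.o) (s : Γ(X₀, V'.o)),
      δ ⟨V, h.trans hV'⟩ (X₀.presheaf.map (homOfLE h).op s) = N.presheaf.map (homOfLE h).op (δ ⟨V', hV'⟩ s)) ∧
    (∀ (V : Small b) (hV : V.o ≤ W) (r t : Γ(X₀, V.o)), δ ⟨V, hV⟩ (r * t) = r • δ ⟨V, hV⟩ t + t • δ ⟨V, hV⟩ r) ∧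
    ∀ (V : Small b) (hV : V.o ≤ W) (T : S.Opens) (e : V.o ≤ b ⁻¹ᵁ T) (c : Γ(S, T)), δ ⟨V, hV⟩ (b.appLE T V.o e c) = 0}
  zero_mem' := ⟨fun _ _ _ h _ => (map_zero _).symm, fun _ _ _ _ => by simp, fun _ _ _ _ _ => rfl⟩
  add_mem' := fun {δ ε} hδ hε => ⟨fun V V' hV' h s => by
      show δ ⟨V, _⟩ _ + ε ⟨V, _⟩ _ = N.presheaf.map _ (δ ⟨V', hV'⟩ s + ε ⟨V', hV'⟩ s)
      rw [map_add, hδ.1, hε.1], fun V hV r t => by
      show δ ⟨V, hV⟩ _ + ε ⟨V, hV⟩ _ = r • (δ ⟨V, hV⟩ t + ε ⟨V, hV⟩ t) + t • (δ ⟨V, hV⟩ r + ε ⟨V, hV⟩ r)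
      rw [hδ.2.1, hε.2.1, smul_add, smul_add]
      abel, fun V hV T e c => by
      show δ ⟨V, hV⟩ _ + ε ⟨V, hV⟩ _ = 0
      rw [hδ.2.2, hε.2.2, add_zero]⟩
  neg_mem' := fun {δ} hδ => ⟨fun V V' hV' h s => by
      show -δ ⟨V, _⟩ _ = N.presheaf.map _ (-δ ⟨V', hV'⟩ s)
      rw [map_neg, hδ.1], fun V hV r t => by
      show -δ ⟨V, hV⟩ _ = r • -δ ⟨V, hV⟩ t + t • -δ ⟨V, hV⟩ r
      rw [hδ.2.1, smul_neg, smul_neg]
      abel, fun V hV T e c => by
      show -δ ⟨V, hV⟩ _ = 0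
      rw [hδ.2.2, neg_zero]⟩

/-- Derivations over an open. -/
abbrev DerOn (W : X₀.Opens) : Type u := ↥(derSub b N W)

variable {b N}

/-- Values. -/
def DerOn.at' {W : X₀.Opens} (d : DerOn b N W) (V : Small b) (hV : V.o ≤ W) : Γ(X₀, V.o) →+ Γ(N, V.o) :=
  d.1 ⟨V, hV⟩

theorem DerOn.ext' {W : X₀.Opens} {d d' : DerOn b N W} (h : ∀ V hV s, d.at' V hV s = d'.at' V hV s) : d = d' :=
  Subtype.ext (funext fun V => AddMonoidHom.ext (h V.1 V.2))

theorem DerOn.at_add {W : X₀.Opens} (d d' : DerOn b N W) (V : Small b) (hV : V.o ≤ W) (s : Γ(X₀, V.o)) :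
    (d + d').at' V hV s = d.at' V hV s + d'.at' V hV s := rfl

theorem DerOn.at_sub {W : X₀.Opens} (d d' : DerOn b N W) (V : Small b) (hV : V.o ≤ W) (s : Γ(X₀, V.o)) :
    (d - d').at' V hV s = d.at' V hV s - d'.at' V hV s := rfl

theorem DerOn.at_neg {W : X₀.Opens} (d : DerOn b N W) (V : Small b) (hV : V.o ≤ W) (s : Γ(X₀, V.o)) :
    (-d).at' V hV s = -d.at' V hV s := rfl

theorem DerOn.at_zero {W : X₀.Opens} (V : Small b) (hV : V.o ≤ W) (s : Γ(X₀, V.o)) :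
    (0 : DerOn b N W).at' V hV s = 0 := rfl

/-- Restriction. -/
def resD {W' W : X₀.Opens} (h : W' ≤ W) : DerOn b N W →+ DerOn b N W' where
  toFun d := ⟨fun V => d.1 ⟨V.1, V.2.trans h⟩, fun V V' hV' hle s => d.2.1 V V' (hV'.trans h) hle s,
    fun V hV => d.2.2.1 V _, fun V hV => d.2.2.2 V _⟩
  map_zero' := rfl
  map_add' _ _ := rfl

theorem resD_at {W' W : X₀.Opens} (h : W' ≤ W) (d : DerOn b N W) (V : Small b) (hV : V.o ≤ W')
    (s : Γ(X₀, V.o)) : (resD h d).at' V hV s = d.at' V (hV.trans h) s := rfl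

theorem resD_resD {W'' W' W : X₀.Opens} (h' : W'' ≤ W') (h : W' ≤ W) (d : DerOn b N W) :
    resD h' (resD h d) = resD (h'.trans h) d := rfl

variable (b N)

/-- One cocycles of derivations are coboundaries. -/
def Vanish1 : Prop :=
  ∀ (ι : Type u) (U : ι → X₀.Opens), ⨆ i, U i = ⊤ → ∀ c : ∀ i j, DerOn b N (U i ⊓ U j),
    (∀ i j k (W : X₀.Opens) (hi : W ≤ U i) (hj : W ≤ U j) (hk : W ≤ U k),
      resD (le_inf hj hk) (c j k) - resD (le_inf hi hk) (c i k) + resD (le_inf hi hj) (c i j) = 0) →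
    ∃ e : ∀ i, DerOn b N (U i), ∀ i j (W : X₀.Opens) (hi : W ≤ U i) (hj : W ≤ U j),
      resD (le_inf hi hj) (c i j) = resD hj (e j) - resD hi (e i)

/-- Two cocycles of derivations on affine covers are coboundaries. -/
def Vanish2 : Prop :=
  ∀ (ι : Type u) (U : ι → X₀.Opens), ⨆ i, U i = ⊤ → (∀ i, IsAffineOpen (U i)) →
    ∀ c : ∀ i j k, DerOn b N (U i ⊓ U j ⊓ U k),
    (∀ i j k l (W : X₀.Opens) (hi : W ≤ U i) (hj : W ≤ U j) (hk : W ≤ U k) (hl : W ≤ U l),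
      resD (le_inf (le_inf hj hk) hl) (c j k l) - resD (le_inf (le_inf hi hk) hl) (c i k l) +
        resD (le_inf (le_inf hi hj) hl) (c i j l) - resD (le_inf (le_inf hi hj) hk) (c i j k) = 0) →
    ∃ e : ∀ i j, DerOn b N (U i ⊓ U j), ∀ i j k (W : X₀.Opens) (hi : W ≤ U i) (hj : W ≤ U j) (hk : W ≤ U k),
      resD (le_inf (le_inf hi hj) hk) (c i j k) =
        resD (le_inf hj hk) (e j k) - resD (le_inf hi hk) (e i k) + resD (le_inf hi hj) (e i j)

end Groth.Agent.LiftObs29
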