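import Groth.Agent.LiftObs29.Bridge
import Groth.Agent.LiftObs29.OfScheme
import Groth.Agent.LiftObs29.Colim
import Groth.Agent.AlgSpLib.ThickStep
import Groth.Agent.CAlgH.IndSmoothSquareZero

/-!
# Smooth lifts exist when the obstructions vanish
-/

set_option autoImplicit false
set_option backward.isDefEq.respectTransparency.types false
set_option backward.isDefEq.respectTransparency false
set_option linter.style.haveILetI false

universe u

open CategoryTheory CategoryTheory.Limits AlgebraicGeometry TopologicalSpace Opposite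

noncomputable section

namespace Groth.Agent.LiftObs29

variable {S X₀ : Scheme.{u}} (I : S.IdealSheafData) (f₀ : X₀ ⟶ I.subscheme) [Smooth f₀]

/-- Smooth lifts exist over small affines. -/
theorem exists_local_lift (V : Small (f₀ ≫ I.subschemeι)) :
    ∃ (X : Scheme.{u}) (f : X ⟶ S) (j : V.o.toScheme ⟶ X), Smooth f ∧
      IsPullback j (V.o.ι ≫ f₀) f I.subschemeι := by
  obtain ⟨T, e⟩ := V.2
  have e' : V.o ≤ f₀ ⁻¹ᵁ (I.subschemeι ⁻¹ᵁ T.1) := e
  have hT₀ : IsAffineOpen (I.subschemeι ⁻¹ᵁ T.1) := T.2.preimage I.subschemeι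
  letI := (I.subschemeι.app T.1).hom.toAlgebra
  letI := (f₀.appLE (I.subschemeι ⁻¹ᵁ T.1) V.o e').hom.toAlgebra
  letI := ((f₀.appLE (I.subschemeι ⁻¹ᵁ T.1) V.o e').hom.comp (I.subschemeι.app T.1).hom).toAlgebra
  haveI : IsScalarTower Γ(S, T.1) Γ(I.subscheme, I.subschemeι ⁻¹ᵁ T.1) Γ(X₀, V.o) :=
    IsScalarTower.of_algebraMap_eq fun _ => rfl
  haveI : Algebra.Smooth Γ(I.subscheme, I.subschemeι ⁻¹ᵁ T.1) Γ(X₀, V.o) := f₀.smooth_appLE hT₀ V.hV e'
  obtain ⟨B, _, _, hB, q, hq, hk⟩ := CAlgH.IndSmoothSquareZero.exists_smooth_lift' (R := Γ(S, T.1))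
    (R₀ := Γ(I.subscheme, I.subschemeι ⁻¹ᵁ T.1)) (A₀ := Γ(X₀, V.o)) (I.subschemeι.app_surjective T.1 T.2)
  have hpo := AlgSpLib.ThickAff.isPushout_of_surjective_of_ker (algebraMap Γ(S, T.1) B) (I.subschemeι.app T.1).hom
    q.toRingHom (f₀.appLE (I.subschemeι ⁻¹ᵁ T.1) V.o e').hom (RingHom.ext q.commutes)
    (I.subschemeι.app_surjective T.1 T.2) hq hk
  have h1 := isPullback_SpecMap_of_isPushout _ _ _ _ hpo
  have h2 : IsPullback (Spec.map (I.subschemeι.app T.1)) hT₀.fromSpec T.2.fromSpec I.subschemeι :=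
    IsOpenImmersion.isPullback _ _ _ _
      (by rw [Scheme.Hom.app_eq_appLE, IsAffineOpen.SpecMap_appLE_fromSpec])
      (by rw [T.2.opensRange_fromSpec, hT₀.opensRange_fromSpec])
  have h3 := h1.paste_vert h2
  refine ⟨Spec (CommRingCat.of B), Spec.map (CommRingCat.ofHom (algebraMap Γ(S, T.1) B)) ≫ T.2.fromSpec,
    V.hV.isoSpec.hom ≫ Spec.map (CommRingCat.ofHom q.toRingHom), ?_, ?_⟩
  · haveI : Smooth (Spec.map (CommRingCat.ofHom (algebraMap Γ(S, T.1) B))) :=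
      (HasRingHomProperty.Spec_iff (P := @Smooth)).2 (RingHom.smooth_algebraMap.2 hB)
    infer_instance
  · refine h3.of_iso V.hV.isoSpec.symm (Iso.refl _) (Iso.refl _) (Iso.refl _) ?_ ?_ (by simp) (by simp)
    · simp
    · simp only [Iso.symm_hom, Iso.refl_hom, Category.comp_id]
      show Spec.map (f₀.appLE _ V.o e') ≫ hT₀.fromSpec = V.hV.isoSpec.inv ≫ V.o.ι ≫ f₀
      rw [IsAffineOpen.SpecMap_appLE_fromSpec f₀ hT₀ V.hV e', ← Category.assoc, IsAffineOpen.isoSpec_inv_ι]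

/-- A smooth lift exists when two cocycles of derivations are coboundaries. -/
theorem exists_lift_of_vanish2 (hI : I ^ 2 = ⊥) [X₀.IsSeparated]
    (hv : Vanish2 (f₀ ≫ I.subschemeι) (pullN I f₀)) :
    ∃ (X : Scheme.{u}) (f : X ⟶ S) (j : X₀ ⟶ X), Smooth f ∧ IsPullback j f₀ f I.subschemeι := by
  choose X f j hf hc using exists_local_lift I f₀
  have hU : ⨆ V : Small (f₀ ≫ I.subschemeι), V.o = ⊤ := top_le_iff.1 fun x _ => by
    obtain ⟨V, hxV, -⟩ := exists_small (b := f₀ ≫ I.subschemeι) (Opens.mem_top x)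
    exact Opens.mem_iSup.2 ⟨V, hxV⟩
  haveI := hf
  obtain ⟨D, hD⟩ := exists_glue hv (fun V : Small (f₀ ≫ I.subschemeι) => V) hU
    (fun V => OfScheme.thick I f₀ hI (f V) (j V) (hc V))
  obtain ⟨i, hi⟩ := D.exists_isPullback hU
  refine ⟨D.total, D.toBase, i, D.smooth_toBase fun V W hW => ?_, hi⟩
  rw [hD]
  show Smooth ((OfScheme.isAffineOpen_O I f₀ hI (f V) (j V) (hc V) W hW).fromSpec ≫ f V)
  infer_instance

theorem isQCoh_pullN : Coh.IsQCoh (pullN I f₀) :=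
  haveI := MorProj.isQCoh_idealMod I
  EGA43.InjFibre.isQCoh_pullback _ _

/-- The vanishing of the second Ext group gives smooth lifts. -/
theorem exists_lift_of_ext (hI : I ^ 2 = ⊥) [X₀.IsSeparated] [HasExt.{u} X₀.Modules]
    {M : X₀.Modules} (e : M ≅ pullN I f₀) (h2 : Subsingleton (Abelian.Ext.{u} (Omega.sheaf f₀) M 2)) :
    ∃ (X : Scheme.{u}) (f : X ⟶ S) (j : X₀ ⟶ X), Smooth f ∧ IsPullback j f₀ f I.subschemeι :=
  haveI := isQCoh_pullN I f₀
  exists_lift_of_vanish2 I f₀ hI (vanish2_of_ext f₀ I.subschemeι (pullN I f₀)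
    (ExtLF.extCongrRight e (Omega.sheaf f₀) 2).toEquiv.symm.subsingleton)

end Groth.Agent.LiftObs29
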