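import Groth.Agent.LiftObs29.Thick
import Mathlib.AlgebraicGeometry.Morphisms.Separated

/-!
# The obstruction two cocycle of local thickenings
-/

set_option autoImplicit false
set_option backward.isDefEq.respectTransparency.types false
set_option backward.isDefEq.respectTransparency false
set_option linter.style.haveILetI false
set_option linter.unusedSectionVars false

universe u

open CategoryTheory AlgebraicGeometry TopologicalSpace Opposite

noncomputable section

namespace Groth.Agent.LiftObs29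

variable {S S₀ X₀ : Scheme.{u}} {f₀ : X₀ ⟶ S₀} {ι : S₀ ⟶ S} {N : X₀.Modules} {G : GenData f₀ ι N}

/-- Local thickenings with compatible identifications. -/
structure Glue (G : GenData f₀ ι N) (κ : Type u) (U : κ → X₀.Opens) where
  P : ∀ i, Thick G (U i)
  θ : ∀ (i j : κ) (V : Small (f₀ ≫ ι)) (hi : V.o ≤ U i) (hj : V.o ≤ U j), (P i).R V hi ⟶ (P j).R V hj
  θ_res : ∀ (i j : κ) {V V' : Small (f₀ ≫ ι)} (h : V.o ≤ V'.o) (hi : V'.o ≤ U i) (hj : V'.o ≤ U j),
    θ i j V' hi hj ≫ (P j).res h hj = (P i).res h hi ≫ θ i j V (h.trans hi) (h.trans hj)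
  θ_π : ∀ i j V hi hj, θ i j V hi hj ≫ (P j).π V hj = (P i).π V hi
  θ_str : ∀ i j V hi hj, Spec.map (θ i j V hi hj) ≫ (P i).str V hi = (P j).str V hj
  θ_comp : ∀ i j k V hi hj hk, θ i j V hi hj ≫ θ j k V hj hk = θ i k V hi hk
  bij : ∀ i j V hi hj, Function.Bijective (θ i j V hi hj)

theorem Glue.θ_self {κ : Type u} {U : κ → X₀.Opens} (D : Glue G κ U) (i : κ) (V : Small (f₀ ≫ ι)) (hi : V.o ≤ U i) :
    D.θ i i V hi hi = 𝟙 _ :=
  CommRingCat.hom_ext (RingHom.ext fun r => (D.bij i i V hi hi).1 congr($(D.θ_comp i i i V hi hi hi) r))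

theorem exists_glue [X₀.IsSeparated] (hv : Vanish2 (f₀ ≫ ι) N) {κ : Type u} (U : κ → Small (f₀ ≫ ι))
    (hU : ⨆ i, (U i).o = ⊤) (P : ∀ i, Thick G (U i).o) :
    ∃ D : Glue G κ (fun i => (U i).o), D.P = P := by
  let U₂ : κ → κ → Small (f₀ ≫ ι) := fun i j => shrink (U i) ((U i).hV.inf (U j).hV) inf_le_left
  have θ : ∀ i j, Thick.Iso (P i) (P j) ((U i).o ⊓ (U j).o) inf_le_left inf_le_right := fun i j =>
    (Thick.nonempty_iso (P i) (P j) (U₂ i j) inf_le_left inf_le_right).some
  let r : ∀ i j (W : X₀.Opens) (hi : W ≤ (U i).o) (hj : W ≤ (U j).o), Thick.Iso (P i) (P j) W hi hj :=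
    fun i j W hi hj => (θ i j).restrict (le_inf hi hj)
  have hc : ∀ i j k, ∃ c : DerOn (f₀ ≫ ι) N ((U i).o ⊓ (U j).o ⊓ (U k).o),
      (r i k _ (inf_le_left.trans inf_le_left) inf_le_right).twist c =
        (r i j _ (inf_le_left.trans inf_le_left) (inf_le_left.trans inf_le_right)).comp
          (r j k _ (inf_le_left.trans inf_le_right) inf_le_right) := fun i j k => Thick.Iso.exists_twist_eq _ _
  choose c hc using hc
  have hcW : ∀ i j k (W : X₀.Opens) (hi : W ≤ (U i).o) (hj : W ≤ (U j).o) (hk : W ≤ (U k).o),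
      (r i k W hi hk).twist (resD (le_inf (le_inf hi hj) hk) (c i j k)) = (r i j W hi hj).comp (r j k W hj hk) := by
    intro i j k W hi hj hk
    refine Thick.Iso.ext' fun V hV x => ?_
    exact congr(($(hc i j k)).θ V (hV.trans (le_inf (le_inf hi hj) hk)) x)
  obtain ⟨e, he⟩ := hv κ (fun i => (U i).o) hU (fun i => (U i).hV) c fun i j k l W hi hj hk hl => by
    have h1 : ((r i j W hi hj).comp (r j k W hj hk)).comp (r k l W hk hl) =
        (r i l W hi hl).twist (resD (le_inf (le_inf hi hk) hl) (c i k l) + resD (le_inf (le_inf hi hj) hk) (c i j k)) := by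
      rw [← hcW i j k W hi hj hk, Thick.Iso.twist_comp, ← hcW i k l W hi hk hl, Thick.Iso.twist_twist]
    have h2 : (r i j W hi hj).comp ((r j k W hj hk).comp (r k l W hk hl)) =
        (r i l W hi hl).twist (resD (le_inf (le_inf hi hj) hl) (c i j l) + resD (le_inf (le_inf hj hk) hl) (c j k l)) := by
      rw [← hcW j k l W hj hk hl, Thick.Iso.comp_twist, ← hcW i j l W hi hj hl, Thick.Iso.twist_twist]
    have h3 := Thick.Iso.twist_injective _ (h1.symm.trans ((Thick.Iso.comp_assoc _ _ _).trans h2))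
    rw [← sub_eq_zero] at h3
    rw [← neg_eq_zero, ← h3]
    abel
  let r' : ∀ i j (W : X₀.Opens) (hi : W ≤ (U i).o) (hj : W ≤ (U j).o), Thick.Iso (P i) (P j) W hi hj :=
    fun i j W hi hj => ((θ i j).twist (-(e i j))).restrict (le_inf hi hj)
  have hr' : ∀ i j k (W : X₀.Opens) (hi : W ≤ (U i).o) (hj : W ≤ (U j).o) (hk : W ≤ (U k).o),
      (r' i j W hi hj).comp (r' j k W hj hk) = r' i k W hi hk := by
    intro i j k W hi hj hk
    show (((θ i j).twist _).restrict _).comp (((θ j k).twist _).restrict _) = ((θ i k).twist _).restrict _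
    rw [Thick.Iso.restrict_twist, Thick.Iso.restrict_twist, Thick.Iso.restrict_twist, Thick.Iso.twist_comp,
      Thick.Iso.comp_twist, Thick.Iso.twist_twist]
    show ((r i j W hi hj).comp (r j k W hj hk)).twist _ = (r i k W hi hk).twist _
    rw [← hcW i j k W hi hj hk, Thick.Iso.twist_twist, he i j k W hi hj hk, map_neg, map_neg, map_neg]
    congr 1
    abel
  exact ⟨{
    P := P
    θ := fun i j V hi hj => (r' i j V.o hi hj).θ V le_rfl
    θ_res := fun i j V V' h hi hj => (r' i j V'.o hi hj).θ_res h le_rfl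
    θ_π := fun i j V hi hj => (r' i j V.o hi hj).θ_π V le_rfl
    θ_str := fun i j V hi hj => (r' i j V.o hi hj).θ_str V le_rfl
    θ_comp := fun i j k V hi hj hk => congrArg (fun a : Thick.Iso (P i) (P k) V.o hi hk => a.θ V le_rfl) (hr' i j k V.o hi hj hk)
    bij := fun i j V hi hj => (r' i j V.o hi hj).bijective V le_rfl }, rfl⟩

end Groth.Agent.LiftObs29
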