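import Groth.Agent.LiftObs29.Adic
import Groth.Agent.LiftObs29.Algebraize
import Groth.Agent.LiftObs29.Unique
import Groth.Agent.S0039
import Groth.Agent.Coherent.Existence.IsoThick

/-!
# Rigidity: proper smooth schemes over a complete local ring with the same rigid closed fibre
-/

set_option autoImplicit false
set_option backward.isDefEq.respectTransparency.types false
set_option backward.isDefEq.respectTransparency false
set_option linter.style.haveILetI false
set_option linter.unusedSectionVars false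

universe u

open CategoryTheory CategoryTheory.Limits AlgebraicGeometry TopologicalSpace Opposite

noncomputable section

namespace Groth.Agent.LiftObs29

attribute [local instance] HasFiniteBiproducts.of_hasFiniteProducts

section Transfer

variable {S Y : Scheme.{u}} {b : Y ⟶ S} {N N' : Y.Modules}

theorem vanish1_of_iso (e : N ≅ N') (hv : Vanish1 b N) : Vanish1 b N' := by
  intro κ U hU c hc
  obtain ⟨g, hg⟩ := hv κ U hU (fun i j => postDer e.inv _ (c i j)) fun i j k W hi hj hk => by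
    simp only [resD_postDer, ← map_sub, ← map_add]
    rw [hc i j k W hi hj hk, map_zero]
  refine ⟨fun i => postDer e.hom _ (g i), fun i j W hi hj => ?_⟩
  simp only [resD_postDer, ← map_sub]
  rw [← hg i j W hi hj]
  refine DerOn.ext' fun V hV s => ?_
  rw [postDer_at, resD_at, resD_at, postDer_at]
  exact (congr(($(e.inv_hom_id)).app V.o ((c i j).at' V (hV.trans (le_inf hi hj)) s))).symm

theorem vanish1_biproduct {r : ℕ} (P : Fin r → Y.Modules) (hv : ∀ q, Vanish1 b (P q)) : Vanish1 b (⨁ P) := by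
  intro κ U hU c hc
  have hq : ∀ q, ∃ g : ∀ i, DerOn b (P q) (U i), ∀ i j (W : Y.Opens) (hi : W ≤ U i) (hj : W ≤ U j),
      postDer (biproduct.π P q) W (resD (le_inf hi hj) (c i j)) = resD hj (g j) - resD hi (g i) := fun q => by
    refine hv q κ U hU (fun i j => postDer (biproduct.π P q) _ (c i j)) fun i j k W hi hj hk => ?_
    simp only [resD_postDer, ← map_sub, ← map_add]
    rw [hc i j k W hi hj hk, map_zero]
  choose g hg using hq
  refine ⟨fun i => ∑ q, postDer (biproduct.ι P q) _ (g q i), fun i j W hi hj => ?_⟩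
  simp only [map_sum, resD_postDer]
  rw [← Finset.sum_sub_distrib]
  simp only [← map_sub]
  rw [Finset.sum_congr rfl fun q _ => congrArg (postDer (biproduct.ι P q) W) (hg q i j W hi hj).symm]
  refine DerOn.ext' fun V hV s => ?_
  let ev : DerOn b (⨁ P) W →+ Γ(⨁ P, V.o) := AddMonoidHom.mk' (fun d => d.at' V hV s) fun _ _ => rfl
  refine Eq.trans ?_ (map_sum ev _ _).symm
  exact (PicDef15.app_biproduct_total P V.o ((resD (le_inf hi hj) (c i j)).at' V hV s)).symm

variable {X : Scheme.{u}} (b) (t : X ⟶ Y) [IsClosedImmersion t] [Surjective t] (b' : X ⟶ S) (hb : t ≫ b = b')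
  (M : X.Modules)

include hb in
theorem vanish1_push (hker : ∀ V : Small b, RingHom.ker (t.app V.o).hom ≤
      Ideal.span {a | ∃ (T : S.Opens) (e : V.o ≤ b ⁻¹ᵁ T) (c : Γ(S, T)), a = b.appLE T V.o e c ∧ t.app V.o a = 0})
    (hv : Vanish1 b' M) : Vanish1 b ((Scheme.Modules.pushforward t).obj M) := by
  intro κ U hU c hc
  have hsurj := pushDer_surjective b t b' hb M hker
  choose c' hc' using fun i j => hsurj _ (c i j)
  obtain ⟨g, hg⟩ := hv κ (fun i => t ⁻¹ᵁ U i) (top_le_iff.1 fun x _ => by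
      obtain ⟨i, hi⟩ := Opens.mem_iSup.1 (show t x ∈ ⨆ i, U i by rw [hU]; trivial)
      exact Opens.mem_iSup.2 ⟨i, hi⟩) c'
    fun i j k W' hi hj hk => by
      have key : ∀ (W : Y.Opens) (hi : W ≤ U i) (hj : W ≤ U j) (hk : W ≤ U k),
          resD (t.preimage_mono (le_inf hj hk)) (c' j k) - resD (t.preimage_mono (le_inf hi hk)) (c' i k) +
            resD (t.preimage_mono (le_inf hi hj)) (c' i j) = 0 := fun W hi hj hk =>
        pushDer_injective b t b' hb M W (by
          rw [map_add, map_sub, map_zero]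
          rw [← resD_pushDer, ← resD_pushDer, ← resD_pushDer, hc', hc', hc']
          exact hc i j k W hi hj hk)
      have h0 := congrArg (resD (b := b') (N := M) (le_inf (le_inf hi hj) hk : W' ≤ t ⁻¹ᵁ (U i ⊓ U j ⊓ U k)))
        (key (U i ⊓ U j ⊓ U k) (inf_le_left.trans inf_le_left) (inf_le_left.trans inf_le_right) inf_le_right)
      rw [map_add, map_sub, map_zero] at h0
      exact h0
  refine ⟨fun i => pushDer b t b' hb M _ (g i), fun i j W hi hj => ?_⟩
  rw [← hc', resD_pushDer, resD_pushDer, resD_pushDer, ← map_sub]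
  exact congrArg (pushDer b t b' hb M W) (hg i j (t ⁻¹ᵁ W) (t.preimage_mono hi) (t.preimage_mono hj))

end Transfer

section StepIso

variable {A A₁ k : Type u} [CommRing A] [IsLocalRing A] [IsNoetherianRing A] [CommRing A₁] [CommRing k]
  (p : A →+* A₁) (g : A₁ →+* k)

set_option maxHeartbeats 1000000 in
/-- Lifts along a small step are unique when `Ext¹(Ω, O) = 0`. -/
theorem exists_step_iso (hp : Function.Surjective p) (hg : Function.Surjective g)
    (hM : RingHom.ker (g.comp p) = IsLocalRing.maximalIdeal A) (hnil : IsNilpotent (IsLocalRing.maximalIdeal A))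
    (hsq : IsLocalRing.maximalIdeal A * RingHom.ker p = ⊥)
    {X : Scheme.{u}} (x : X ⟶ Spec (CommRingCat.of k)) [Smooth x] [IsSeparated x] [HasExt.{u} X.Modules]
    (h1 : Subsingleton (Abelian.Ext.{u} (Omega.sheaf x) (Coh.structureModule X) 1))
    {Y : Scheme.{u}} (f : Y ⟶ Spec (CommRingCat.of A₁)) [Flat f] (i : X ⟶ Y)
    (hY : IsPullback i x f (Spec.map (CommRingCat.ofHom g)))
    {Y₁ Y₂ : Scheme.{u}} (f₁ : Y₁ ⟶ Spec (CommRingCat.of A)) (f₂ : Y₂ ⟶ Spec (CommRingCat.of A)) [Flat f₁] [Flat f₂]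
    (j₁ : Y ⟶ Y₁) (j₂ : Y ⟶ Y₂) (hc₁ : IsPullback j₁ f f₁ (Spec.map (CommRingCat.ofHom p)))
    (hc₂ : IsPullback j₂ f f₂ (Spec.map (CommRingCat.ofHom p))) :
    ∃ e : Y₁ ≅ Y₂, j₁ ≫ e.hom = j₂ ∧ e.hom ≫ f₂ = f₁ := by
  have hkg : RingHom.ker g = (RingHom.ker (g.comp p)).map p := by
    rw [← RingHom.comap_ker, Ideal.map_comap_of_surjective p hp]
  have hnilg : IsNilpotent (RingHom.ker g) := by
    obtain ⟨n, hn⟩ := hnil
    exact ⟨n, by rw [hkg, ← Ideal.map_pow, hM, hn]; exact Ideal.map_bot⟩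
  haveI : IsClosedImmersion (Spec.map (CommRingCat.ofHom g)) := IsClosedImmersion.spec_of_surjective _ hg
  haveI : Surjective (Spec.map (CommRingCat.ofHom g)) := surjective_specMap_of_nil g hg hnilg
  haveI : IsClosedImmersion i := MorphismProperty.of_isPullback (P := @IsClosedImmersion) hY.flip inferInstance
  haveI : Surjective i := MorphismProperty.of_isPullback (P := @Surjective) hY.flip inferInstance
  haveI : X.IsSeparated := ⟨by rw [← terminal.comp_from x]; infer_instance⟩
  haveI : Y.IsSeparated := PicDef15.isSeparated_of_thickening i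
  haveI : IsNoetherianRing A₁ := isNoetherianRing_of_surjective A A₁ p hp
  haveI : LocallyOfFiniteType f :=
    FSchLib.locallyOfFiniteType_of_thickening (FSchLib.ker_of_isPullback hY) hY.w
  haveI : LocallyOfFinitePresentation f := inferInstance
  haveI : Smooth f := AlgSpLib.smooth_of_thick hY
  -- the thickening of the base
  let S := Spec (CommRingCat.of A)
  let sp := Spec.map (CommRingCat.ofHom p)
  haveI : IsClosedImmersion sp := IsClosedImmersion.spec_of_surjective _ hp
  let I : S.IdealSheafData := sp.ker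
  have hIV : ∀ V : S.affineOpens, I.ideal V = (RingHom.ker p).map (PicDef15.phi (𝟙 S) V.1) := fun V =>
    PicDef15.ideal_ker_of_isPullback p hp (IsPullback.id_vert sp) V
  have hJJ : RingHom.ker p * RingHom.ker p = ⊥ := by
    refine eq_bot_iff.2 (le_trans (Ideal.mul_mono_left ?_) hsq.le)
    rw [← hM, ← RingHom.comap_ker]
    exact Ideal.comap_mono bot_le
  have hI : I ^ 2 = ⊥ := PicDef15.sq_eq_bot (𝟙 S) hIV hJJ
  have hItop : I.ideal ⟨⊤, isAffineOpen_top _⟩ = (RingHom.ker p).map (toTop (R := A)) :=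
    FSchLib.ideal_top_ker_specMap p
  let f₀ : Y ⟶ I.subscheme := f ≫ sp.toImage
  have hb : f₀ ≫ I.subschemeι = f ≫ sp := by
    show (f ≫ sp.toImage) ≫ sp.imageι = f ≫ sp
    rw [Category.assoc, Scheme.Hom.toImage_imageι]
  have hphi : ∀ (V : Y.Opens), PicDef15.phi (f₀ ≫ I.subschemeι) V = (PicDef15.phi f V).comp p := fun V => by
    refine RingHom.ext fun a => ?_
    have h1 : PicDef15.phi (f ≫ sp) V a = PicDef15.phi f V (p a) := by
      show ((f ≫ sp).appLE ⊤ V le_top) ((Scheme.ΓSpecIso (CommRingCat.of A)).inv a) =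
        (f.appLE ⊤ V le_top) ((Scheme.ΓSpecIso (CommRingCat.of A₁)).inv (p a))
      rw [show (Scheme.ΓSpecIso (CommRingCat.of A₁)).inv (p a) =
        (Spec.map (CommRingCat.ofHom p)).appTop ((Scheme.ΓSpecIso (CommRingCat.of A)).inv a) from
          congr($(Scheme.ΓSpecIso_inv_naturality (CommRingCat.ofHom p)) a)]
      rw [Scheme.Hom.comp_appLE]
      rfl
    refine Eq.trans ?_ h1
    congr 2
  have ht : ∀ V : Y.affineOpens,
      i.ker.ideal V = (IsLocalRing.maximalIdeal A).map (PicDef15.phi (f₀ ≫ I.subschemeι) V.1) := fun V => by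
    rw [hphi, ← Ideal.map_map, ← hM, ← hkg]
    exact PicDef15.ideal_ker_of_isPullback g hg hY V
  obtain ⟨r, a, ha, hindep⟩ := PicDef15.exists_indep_gens (A := A) (IsNoetherian.noetherian (RingHom.ker p))
  obtain ⟨e⟩ := nonempty_pullN_iso (f₀ ≫ I.subschemeι) I i a ha hsq
    (fun c hc => hindep c (by rw [hc]; exact zero_mem _)) hItop ht
  let κ := Spec.map (CommRingCat.ofHom (g.comp p))
  haveI : IsClosedImmersion κ := IsClosedImmersion.spec_of_surjective _ (hg.comp hp)
  have hb' : i ≫ f₀ ≫ I.subschemeι = x ≫ κ := by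
    rw [hb, ← Category.assoc, hY.w, Category.assoc]
    show x ≫ Spec.map _ ≫ Spec.map _ = x ≫ Spec.map _
    rw [← Spec.map_comp, ← CommRingCat.ofHom_comp]
  haveI : Coh.IsQCoh (Coh.structureModule X) := Coherent.isQCoh_structureModule
  have hv₀ : Vanish1 (x ≫ κ) (Coh.structureModule X) := vanish1_of_ext x κ _ h1
  have hker : ∀ V : Small (f₀ ≫ I.subschemeι), RingHom.ker (i.app V.o).hom ≤
      Ideal.span {z | ∃ (T : S.Opens) (e : V.o ≤ (f₀ ≫ I.subschemeι) ⁻¹ᵁ T) (c : Γ(S, T)),
        z = (f₀ ≫ I.subschemeι).appLE T V.o e c ∧ i.app V.o z = 0} := fun V => by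
    rw [← Scheme.Hom.ker_apply i ⟨V.o, V.hV⟩, ht, Ideal.map_le_iff_le_comap]
    intro m hm
    refine Ideal.subset_span ⟨⊤, le_top, toTop m, rfl, ?_⟩
    rw [← RingHom.mem_ker, ← Scheme.Hom.ker_apply i ⟨V.o, V.hV⟩, ht]
    exact Ideal.mem_map_of_mem _ hm
  have hv : Vanish1 (f₀ ≫ I.subschemeι) (pullN I f₀) := vanish1_of_iso e.symm
    (vanish1_biproduct _ fun _ => vanish1_push (f₀ ≫ I.subschemeι) i (x ≫ κ) hb' _ hker hv₀)
  have conv : ∀ {Z : Scheme.{u}} (fz : Z ⟶ S) (jz : Y ⟶ Z), IsPullback jz f fz sp → IsPullback jz f₀ fz I.subschemeι :=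
    fun fz jz h => h.of_iso (Iso.refl _) (Iso.refl _) (asIso sp.toImage) (Iso.refl _) (by simp) (by simp [f₀])
      (by simp) (by
        rw [Iso.refl_hom, Category.comp_id, asIso_hom]
        exact sp.toImage_imageι.symm)
  haveI : Smooth f₀ := inferInstanceAs (Smooth (_ ≫ _))
  obtain ⟨φ, hφ, hφ'⟩ := exists_iso hI (conv f₂ j₂ hc₂) (conv f₁ j₁ hc₁) hv
  exact ⟨φ, hφ, hφ'⟩

end StepIso

section Rigid

variable {A : Type u} [CommRing A] [IsLocalRing A] [IsNoetherianRing A]
  [IsAdicComplete (IsLocalRing.maximalIdeal A) A] {X₀ : Scheme.{u}}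
  (x : X₀ ⟶ Spec (CommRingCat.of (IsLocalRing.ResidueField A))) [Smooth x] [HasExt.{u} X₀.Modules]

set_option maxHeartbeats 1000000 in
/-- Two proper flat schemes over a complete local ring with the same rigid smooth closed fibre are isomorphic. -/
theorem exists_iso_of_rigid (hT : Subsingleton (Abelian.Ext.{u} (Omega.sheaf x) (Coh.structureModule X₀) 1))
    {X X' : Scheme.{u}} (f : X ⟶ Spec (CommRingCat.of A)) (f' : X' ⟶ Spec (CommRingCat.of A))
    [IsProper f] [Flat f] [IsProper f'] [Flat f'] (i : X₀ ⟶ X) (i' : X₀ ⟶ X')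
    (h : IsPullback i x f (Spec.map (CommRingCat.ofHom (IsLocalRing.residue A))))
    (h' : IsPullback i' x f' (Spec.map (CommRingCat.ofHom (IsLocalRing.residue A)))) :
    ∃ e : X ≅ X', e.hom ≫ f' = f := by
  let 𝔪 := IsLocalRing.maximalIdeal A
  haveI : Smooth f := smooth_of_closedFibre f i x h
  haveI : Smooth f' := smooth_of_closedFibre f' i' x h'
  haveI : IsSeparated x := MorphismProperty.of_isPullback (P := @IsSeparated) h inferInstance
  have hqm : RingHom.ker (IsLocalRing.residue A) = 𝔪 := IsLocalRing.ker_residue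
  have hq : Function.Surjective (IsLocalRing.residue A) := IsLocalRing.residue_surjective
  let Φ : ℕ → Type u := fun n => { e : CohB1.thick f 𝔪 n ≅ CohB1.thick f' 𝔪 n //
    e.hom ≫ CohB1.thickToBase f' 𝔪 n = CohB1.thickToBase f 𝔪 n }
  have hres : ∀ n, Spec.map (CommRingCat.ofHom (toResidue (IsLocalRing.residue A) hqm n)) ≫ CohB1.specQuot 𝔪 n =
      Spec.map (CommRingCat.ofHom (IsLocalRing.residue A)) := fun n => by
    rw [CohB1.specQuot, ← Spec.map_comp, ← CommRingCat.ofHom_comp, toResidue_comp_mk]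
  have hin : ∀ n, ∃ l : X₀ ⟶ CohB1.thick f 𝔪 n, IsPullback l x (CohB1.thickToBase f 𝔪 n)
      (Spec.map (CommRingCat.ofHom (toResidue (IsLocalRing.residue A) hqm n))) := fun n => by
    refine ⟨pullback.lift i (x ≫ Spec.map (CommRingCat.ofHom (toResidue (IsLocalRing.residue A) hqm n)))
      (by rw [Category.assoc, hres, h.w]), ?_⟩
    refine IsPullback.of_right ?_ (pullback.lift_snd _ _ _) (IsPullback.of_hasPullback f (CohB1.specQuot 𝔪 n))
    rw [pullback.lift_fst, hres]
    exact h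
  have hzero : Nonempty (Φ 0) := by
    haveI := isIso_specMap_toResidue_zero (IsLocalRing.residue A) hq hqm
    let ρ := Spec.map (CommRingCat.ofHom (toResidue (IsLocalRing.residue A) hqm 0))
    have h0 : ∀ {Z : Scheme.{u}} (fz : Z ⟶ Spec (CommRingCat.of A)) (iz : X₀ ⟶ Z),
        IsPullback iz x fz (Spec.map (CommRingCat.ofHom (IsLocalRing.residue A))) →
          IsPullback iz (x ≫ ρ) fz (CohB1.specQuot 𝔪 0) := fun fz iz hz => by
      refine hz.of_iso (Iso.refl _) (Iso.refl _) (asIso ρ) (Iso.refl _) (by simp) (by simp) (by simp) ?_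
      rw [Iso.refl_hom, Category.comp_id, asIso_hom]
      exact (hres 0).symm
    refine ⟨⟨(IsPullback.of_hasPullback f (CohB1.specQuot 𝔪 0)).isoIsPullback _ _ (h0 f i h) ≪≫
      ((IsPullback.of_hasPullback f' (CohB1.specQuot 𝔪 0)).isoIsPullback _ _ (h0 f' i' h')).symm, ?_⟩⟩
    simp
  have hstep : ∀ n, ∀ φ : Φ n, ∃ ψ : Φ (n + 1),
      CohB1.thickTrans f 𝔪 n ≫ ψ.1.hom = φ.1.hom ≫ CohB1.thickTrans f' 𝔪 n := fun n φ => by
    let R := A ⧸ 𝔪 ^ (n + 1 + 1)
    let p : R →+* A ⧸ 𝔪 ^ (n + 1) := Ideal.Quotient.factor (Ideal.pow_le_pow_right (Nat.le_succ (n + 1)))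
    have hp : Function.Surjective p := Ideal.Quotient.factor_surjective _
    haveI : Nontrivial R := Ideal.Quotient.nontrivial_iff.2 fun h => (IsLocalRing.maximalIdeal.isMaximal A).ne_top
      (top_le_iff.1 (h ▸ Ideal.pow_le_self (Nat.succ_ne_zero _)))
    haveI : IsLocalRing R := IsLocalRing.of_surjective' (Ideal.Quotient.mk _) Ideal.Quotient.mk_surjective
    have hmap : IsLocalRing.maximalIdeal R = 𝔪.map (Ideal.Quotient.mk (𝔪 ^ (n + 1 + 1))) := by
      refine (IsLocalRing.eq_maximalIdeal ?_).symm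
      refine (Ideal.map_eq_top_or_isMaximal_of_surjective _ Ideal.Quotient.mk_surjective inferInstance).resolve_left fun h => ?_
      have h2 := congrArg (Ideal.comap (Ideal.Quotient.mk (𝔪 ^ (n + 1 + 1)))) h
      rw [Ideal.comap_map_of_surjective _ Ideal.Quotient.mk_surjective, Ideal.comap_top, ← RingHom.ker_eq_comap_bot,
        Ideal.mk_ker, sup_eq_left.2 (Ideal.pow_le_self (Nat.succ_ne_zero _))] at h2
      exact (IsLocalRing.maximalIdeal.isMaximal A).ne_top h2
    have hkp : RingHom.ker p = (𝔪 ^ (n + 1)).map (Ideal.Quotient.mk (𝔪 ^ (n + 1 + 1))) := Ideal.Quotient.factor_ker _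
    have hM : RingHom.ker ((toResidue (IsLocalRing.residue A) hqm n).comp p) = IsLocalRing.maximalIdeal R := by
      rw [toResidue_comp_factor, ker_toResidue, hmap]
    have hnil : IsNilpotent (IsLocalRing.maximalIdeal R) :=
      ⟨n + 1 + 1, by rw [hmap, ← Ideal.map_pow, Ideal.map_quotient_self]; rfl⟩
    have hsq : IsLocalRing.maximalIdeal R * RingHom.ker p = ⊥ := by
      rw [hmap, hkp, ← Ideal.map_mul, ← pow_succ', Ideal.map_quotient_self]
    have hfl : ∀ {Z : Scheme.{u}} (fz : Z ⟶ Spec (CommRingCat.of A)) [Flat fz] (m : ℕ), Flat (CohB1.thickToBase fz 𝔪 m) :=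
      fun fz _ m => inferInstanceAs (Flat (pullback.snd fz (CohB1.specQuot 𝔪 m)))
    haveI := hfl f n
    haveI := hfl f (n + 1)
    haveI := hfl f' (n + 1)
    obtain ⟨l, hl⟩ := hin n
    obtain ⟨e, he, he'⟩ := exists_step_iso p (toResidue (IsLocalRing.residue A) hqm n) hp
      (surjective_toResidue _ hq hqm n) hM hnil hsq x hT (CohB1.thickToBase f 𝔪 n) l hl
      (CohB1.thickToBase f 𝔪 (n + 1)) (CohB1.thickToBase f' 𝔪 (n + 1))
      (CohB1.thickTrans f 𝔪 n) (φ.1.hom ≫ CohB1.thickTrans f' 𝔪 n)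
      (Coherent.Existence.isPullback_thickTrans f 𝔪 n)
      ((Coherent.Existence.isPullback_thickTrans f' 𝔪 n).of_iso φ.1.symm (Iso.refl _) (Iso.refl _) (Iso.refl _)
        (by simp) (by rw [Iso.refl_hom, Category.comp_id, Iso.symm_hom, Iso.eq_inv_comp]; exact φ.2) (by simp) (by simp [p, CohB1.specQuotTrans]))
    exact ⟨⟨e, he'⟩, he⟩
  choose next hnext using hstep
  let seq : ∀ n, Φ n := fun n => Nat.rec (motive := Φ) hzero.some next n
  obtain ⟨φ, hφ, hφn⟩ := S0039.result A 𝔪 f f' (fun n => (seq n).1.hom) (fun n => (seq n).2)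
    (fun n => hnext n (seq n))
  haveI : IsProper (φ ≫ f') := hφ.symm ▸ (inferInstance : IsProper f)
  haveI : IsProper φ := IsProper.of_comp φ f'
  letI : X'.Over (Spec (CommRingCat.of A)) := ⟨f'⟩
  haveI : IsProper (X' ↘ Spec (CommRingCat.of A)) := ‹IsProper f'›
  haveI : IsIso φ := Coherent.Existence.isIso_of_thickenings (I := 𝔪) φ
    (fun n => (seq n).1.inv ≫ CohB1.thickι f 𝔪 n) (fun n => by
      refine IsPullback.of_bot ?_ ?_ (IsPullback.of_hasPullback f' (CohB1.specQuot 𝔪 n))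
      · show IsPullback _ (𝟙 _ ≫ CohB1.thickToBase f' 𝔪 n) (φ ≫ f') _
        rw [hφ, Category.id_comp]
        exact (IsPullback.of_hasPullback f (CohB1.specQuot 𝔪 n)).of_iso (seq n).1 (Iso.refl _) (Iso.refl _)
          (Iso.refl _) (by simp) (by rw [Iso.refl_hom, Category.comp_id]; exact (seq n).2.symm) (by simp) (by simp)
      · show ((seq n).1.inv ≫ CohB1.thickι f 𝔪 n) ≫ φ = 𝟙 _ ≫ CohB1.thickι f' 𝔪 n
        rw [Category.assoc, hφn, Iso.inv_hom_id_assoc, Category.id_comp])
  exact ⟨asIso φ, hφ⟩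

end Rigid

end Groth.Agent.LiftObs29
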