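import Groth.Agent.LiftObs29.Ctx
import Mathlib.AlgebraicGeometry.Morphisms.Etale
import Mathlib.AlgebraicGeometry.Morphisms.ClosedImmersion
import Mathlib.RingTheory.RingHom.Smooth
import Mathlib.RingTheory.Smooth.Basic

/-!
# Square zero thickenings given on small affines, and the torsor of their isomorphisms
-/

set_option autoImplicit false
set_option backward.isDefEq.respectTransparency.types false
set_option backward.isDefEq.respectTransparency false
set_option linter.style.haveILetI false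
set_option linter.unusedSectionVars false

universe u

open CategoryTheory AlgebraicGeometry TopologicalSpace Opposite

noncomputable section

namespace Groth.Agent.LiftObs29

section StrR

variable {S : Scheme.{u}} {R R' : CommRingCat.{u}}

/-- The functions of an open of the base in an affine scheme over it. -/
def strR (g : Spec R ⟶ S) (T : S.Opens) (e : ⊤ ≤ g ⁻¹ᵁ T) : Γ(S, T) ⟶ R :=
  g.appLE T ⊤ e ≫ (Scheme.ΓSpecIso R).hom

theorem strR_comp (φ : R ⟶ R') (g : Spec R ⟶ S) {g' : Spec R' ⟶ S} (hg : Spec.map φ ≫ g = g') (T : S.Opens)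
    (e : ⊤ ≤ g ⁻¹ᵁ T) (e' : ⊤ ≤ g' ⁻¹ᵁ T) : strR g' T e' = strR g T e ≫ φ := by
  subst hg
  rw [strR, strR, Category.assoc, ← Scheme.ΓSpecIso_naturality φ, ← Category.assoc]
  refine congrArg (· ≫ (Scheme.ΓSpecIso R').hom) ?_
  rw [← Scheme.Hom.appLE_comp_appLE (Spec.map φ) g T ⊤ ⊤ e (le_top.trans (Scheme.Hom.preimage_top _).ge)]
  refine congrArg (g.appLE T ⊤ e ≫ ·) ?_
  rw [Scheme.Hom.appTop, Scheme.Hom.app_eq_appLE]
  rfl

theorem spec_strR {g : Spec R ⟶ S} {T : S.Opens} (hT : IsAffineOpen T) (e : ⊤ ≤ g ⁻¹ᵁ T) :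
    Spec.map (strR g T e) ≫ hT.fromSpec = g := by
  rw [strR, Spec.map_comp, Category.assoc, IsAffineOpen.SpecMap_appLE_fromSpec g hT (isAffineOpen_top _) e,
    IsAffineOpen.fromSpec_top, ← Category.assoc]
  simp [Scheme.isoSpec_Spec_inv]

theorem eq_of_strR {g g' : Spec R ⟶ S} {T : S.Opens} (hT : IsAffineOpen T) (e : ⊤ ≤ g ⁻¹ᵁ T) (e' : ⊤ ≤ g' ⁻¹ᵁ T)
    (h : ∀ c, strR g T e c = strR g' T e' c) : g = g' := by
  rw [← spec_strR hT e, ← spec_strR hT e', CommRingCat.hom_ext (RingHom.ext h)]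

theorem strR_fromSpec {X : Scheme.{u}} (b : X ⟶ S) {V : X.Opens} (hV : IsAffineOpen V) (T : S.Opens) (e : V ≤ b ⁻¹ᵁ T)
    (e' : ⊤ ≤ (hV.fromSpec ≫ b) ⁻¹ᵁ T) : strR (hV.fromSpec ≫ b) T e' = b.appLE T V e := by
  have e'' : (⊤ : (Spec Γ(X, V)).Opens) ≤ hV.fromSpec ⁻¹ᵁ V := hV.fromSpec_preimage_self.ge
  rw [strR, ← Scheme.Hom.appLE_comp_appLE hV.fromSpec b T V ⊤ e e'', Category.assoc]
  refine Eq.trans (congrArg (b.appLE T V e ≫ ·) ?_) (Category.comp_id _)
  rw [Scheme.Hom.appLE, hV.fromSpec_app_self, Category.assoc, Category.assoc, ← Functor.map_comp_assoc]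
  simp

end StrR

variable {S S₀ X₀ : Scheme.{u}} (f₀ : X₀ ⟶ S₀) (ι : S₀ ⟶ S) (N : X₀.Modules)

/-- Generators of the kernel module with their lifts to the base. -/
structure GenData where
  gen : ∀ (T : S.affineOpens) (V : Small (f₀ ≫ ι)), V.o ≤ (f₀ ≫ ι) ⁻¹ᵁ T.1 → Set (Γ(S, T.1) × Γ(N, V.o))
  span : ∀ T V e, Submodule.span Γ(X₀, V.o) (Prod.snd '' gen T V e) = ⊤

variable {f₀ ι N} (G : GenData f₀ ι N)

/-- Thickenings with kernel `N` over the small affines of an open. -/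
structure Thick (U : X₀.Opens) where
  R : ∀ V : Small (f₀ ≫ ι), V.o ≤ U → CommRingCat.{u}
  res : ∀ {V V' : Small (f₀ ≫ ι)} (h : V.o ≤ V'.o) (hV' : V'.o ≤ U), R V' hV' ⟶ R V (h.trans hV')
  res_self : ∀ (V : Small (f₀ ≫ ι)) (hV : V.o ≤ U), res (le_refl V.o) hV = 𝟙 (R V hV)
  res_res : ∀ {V V' V'' : Small (f₀ ≫ ι)} (h : V.o ≤ V'.o) (h' : V'.o ≤ V''.o) (hV'' : V''.o ≤ U),
    res h' hV'' ≫ res h (h'.trans hV'') = res (h.trans h') hV''
  π : ∀ (V : Small (f₀ ≫ ι)) (hV : V.o ≤ U), R V hV ⟶ Γ(X₀, V.o)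
  π_surj : ∀ V hV, Function.Surjective (π V hV)
  π_res : ∀ {V V' : Small (f₀ ≫ ι)} (h : V.o ≤ V'.o) (hV' : V'.o ≤ U),
    res h hV' ≫ π V (h.trans hV') = π V' hV' ≫ X₀.presheaf.map (homOfLE h).op
  incl : ∀ (V : Small (f₀ ≫ ι)) (hV : V.o ≤ U), Γ(N, V.o) →+ R V hV
  incl_inj : ∀ V hV, Function.Injective (incl V hV)
  π_incl : ∀ V hV n, π V hV (incl V hV n) = 0
  exact : ∀ V hV r, π V hV r = 0 → ∃ n, incl V hV n = r
  incl_smul : ∀ V hV r n, incl V hV (π V hV r • n) = r * incl V hV n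
  incl_res : ∀ {V V' : Small (f₀ ≫ ι)} (h : V.o ≤ V'.o) (hV' : V'.o ≤ U) (n : Γ(N, V'.o)),
    res h hV' (incl V' hV' n) = incl V (h.trans hV') (N.presheaf.map (homOfLE h).op n)
  str : ∀ (V : Small (f₀ ≫ ι)) (hV : V.o ≤ U), Spec (R V hV) ⟶ S
  str_res : ∀ {V V' : Small (f₀ ≫ ι)} (h : V.o ≤ V'.o) (hV' : V'.o ≤ U),
    Spec.map (res h hV') ≫ str V' hV' = str V (h.trans hV')
  pull : ∀ V hV, IsPullback (V.hV.isoSpec.hom ≫ Spec.map (π V hV)) (V.o.ι ≫ f₀) (str V hV) ι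
  openImm : ∀ {V V' : Small (f₀ ≫ ι)} (h : V.o ≤ V'.o) (hV' : V'.o ≤ U), IsOpenImmersion (Spec.map (res h hV'))
  incl_gen : ∀ (T : S.affineOpens) V hV (e : V.o ≤ (f₀ ≫ ι) ⁻¹ᵁ T.1) (e' : ⊤ ≤ str V hV ⁻¹ᵁ T.1),
    ∀ p ∈ G.gen T V e, incl V hV p.2 = strR (str V hV) T.1 e' p.1
  fsm : ∀ (T : S.affineOpens) V hV (e' : ⊤ ≤ str V hV ⁻¹ᵁ T.1), (strR (str V hV) T.1 e').hom.FormallySmooth

variable {G}

namespace Thick

variable {U U' U'' : X₀.Opens} (P : Thick G U) (P' : Thick G U') (P'' : Thick G U'')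

theorem incl_mul_incl (V : Small (f₀ ≫ ι)) (hV : V.o ≤ U) (n m : Γ(N, V.o)) :
    P.incl V hV n * P.incl V hV m = 0 := by
  rw [← P.incl_smul, P.π_incl, zero_smul, map_zero]

theorem sq_zero (V : Small (f₀ ≫ ι)) (hV : V.o ≤ U) {a c : P.R V hV} (ha : P.π V hV a = 0) (hc : P.π V hV c = 0) :
    a * c = 0 := by
  obtain ⟨n, rfl⟩ := P.exact V hV a ha
  obtain ⟨m, rfl⟩ := P.exact V hV c hc
  exact P.incl_mul_incl V hV n m

theorem isNilpotent_ker (V : Small (f₀ ≫ ι)) (hV : V.o ≤ U) : IsNilpotent (RingHom.ker (P.π V hV).hom) := by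
  refine ⟨2, ?_⟩
  rw [pow_two, eq_comm, Ideal.zero_eq_bot, eq_comm, eq_bot_iff, Ideal.mul_le]
  exact fun a ha c hc => Ideal.mem_bot.2 (P.sq_zero V hV ha hc)

theorem spec_π_str (V : Small (f₀ ≫ ι)) (hV : V.o ≤ U) :
    Spec.map (P.π V hV) ≫ P.str V hV = V.hV.fromSpec ≫ (f₀ ≫ ι) := by
  rw [← cancel_epi V.hV.isoSpec.hom, ← Category.assoc, (P.pull V hV).w, IsAffineOpen.isoSpec_hom_fromSpec_assoc,
    Category.assoc]

theorem surjective_spec_π (V : Small (f₀ ≫ ι)) (hV : V.o ≤ U) : Function.Surjective (Spec.map (P.π V hV)) := by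
  rw [← Set.range_eq_univ]
  show Set.range (PrimeSpectrum.comap (P.π V hV).hom) = Set.univ
  rw [_root_.range_comap_of_surjective _ _ (P.π_surj V hV)]
  refine Set.eq_univ_iff_forall.2 fun q z hz => ?_
  have h2 : z * z ∈ q.asIdeal := by rw [P.sq_zero V hV hz hz]; exact zero_mem _
  exact (q.isPrime.mem_or_mem h2).elim id id

theorem str_le (V : Small (f₀ ≫ ι)) (hV : V.o ≤ U) {T : S.Opens} (e : V.o ≤ (f₀ ≫ ι) ⁻¹ᵁ T) :
    ⊤ ≤ P.str V hV ⁻¹ᵁ T := fun z _ => by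
  obtain ⟨w, rfl⟩ := P.surjective_spec_π V hV z
  show P.str V hV (Spec.map (P.π V hV) w) ∈ T
  rw [← Scheme.Hom.comp_apply, P.spec_π_str, Scheme.Hom.comp_apply]
  refine e ?_
  have : V.hV.fromSpec w ∈ Set.range V.hV.fromSpec := ⟨w, rfl⟩
  rwa [V.hV.range_fromSpec] at this

theorem π_strR (V : Small (f₀ ≫ ι)) (hV : V.o ≤ U) (T : S.Opens) (e : V.o ≤ (f₀ ≫ ι) ⁻¹ᵁ T) (c : Γ(S, T)) :
    P.π V hV (strR (P.str V hV) T (P.str_le V hV e) c) = (f₀ ≫ ι).appLE T V.o e c := by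
  have e'' : ⊤ ≤ (V.hV.fromSpec ≫ (f₀ ≫ ι)) ⁻¹ᵁ T := by
    rw [Scheme.Hom.comp_preimage]
    exact V.hV.fromSpec_preimage_self.ge.trans (Scheme.Hom.preimage_mono _ e)
  rw [← strR_fromSpec (f₀ ≫ ι) V.hV T e e'', strR_comp (P.π V hV) (P.str V hV) (P.spec_π_str V hV) T (P.str_le V hV e) e'']
  rfl

theorem strR_res {V V' : Small (f₀ ≫ ι)} (h : V.o ≤ V'.o) (hV' : V'.o ≤ U) (T : S.Opens)
    (e : ⊤ ≤ P.str V' hV' ⁻¹ᵁ T) (e' : ⊤ ≤ P.str V (h.trans hV') ⁻¹ᵁ T) :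
    strR (P.str V (h.trans hV')) T e' = strR (P.str V' hV') T e ≫ P.res h hV' :=
  strR_comp _ _ (P.str_res h hV') T e e'

/-- Compatible isomorphisms over the small affines of an open. -/
structure Iso (W : X₀.Opens) (hW : W ≤ U) (hW' : W ≤ U') where
  θ : ∀ (V : Small (f₀ ≫ ι)) (hV : V.o ≤ W), P.R V (hV.trans hW) ⟶ P'.R V (hV.trans hW')
  θ_res : ∀ {V V' : Small (f₀ ≫ ι)} (h : V.o ≤ V'.o) (hV' : V'.o ≤ W),
    θ V' hV' ≫ P'.res h (hV'.trans hW') = P.res h (hV'.trans hW) ≫ θ V (h.trans hV')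
  θ_π : ∀ V hV, θ V hV ≫ P'.π V (hV.trans hW') = P.π V (hV.trans hW)
  θ_str : ∀ V hV, Spec.map (θ V hV) ≫ P.str V (hV.trans hW) = P'.str V (hV.trans hW')

variable {P P' P''} {W W' : X₀.Opens} {hW : W ≤ U} {hW' : W ≤ U'} {hW'' : W ≤ U''}

theorem Iso.ext' {a a' : Iso P P' W hW hW'} (h : ∀ V hV r, a.θ V hV r = a'.θ V hV r) : a = a' := by
  cases a; cases a'
  congr
  funext V hV
  exact CommRingCat.hom_ext (RingHom.ext (h V hV))

theorem Iso.π_apply (a : Iso P P' W hW hW') (V : Small (f₀ ≫ ι)) (hV : V.o ≤ W) (r) :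
    P'.π V (hV.trans hW') (a.θ V hV r) = P.π V (hV.trans hW) r :=
  congr($(a.θ_π V hV) r)

theorem Iso.θ_incl (a : Iso P P' W hW hW') (V : Small (f₀ ≫ ι)) (hV : V.o ≤ W) (n : Γ(N, V.o)) :
    a.θ V hV (P.incl V (hV.trans hW) n) = P'.incl V (hV.trans hW') n := by
  obtain ⟨T, e⟩ := V.2
  have hn : n ∈ Submodule.span Γ(X₀, V.o) (Prod.snd '' G.gen T V e) := G.span T V e ▸ trivial
  induction hn using Submodule.span_induction with
  | mem z hz =>
    obtain ⟨p, hp, rfl⟩ := hz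
    rw [P.incl_gen T V _ e (P.str_le V _ e) p hp, P'.incl_gen T V _ e (P'.str_le V _ e) p hp,
      strR_comp (a.θ V hV) _ (a.θ_str V hV) T.1 (P.str_le V _ e) (P'.str_le V _ e)]
    rfl
  | zero => rw [map_zero, map_zero, map_zero]
  | add _ _ _ _ h1 h2 => rw [map_add, map_add, map_add, h1, h2]
  | smul r z _ h1 =>
    obtain ⟨r, rfl⟩ := P.π_surj V (hV.trans hW) r
    rw [P.incl_smul, map_mul, h1, ← a.π_apply V hV r, P'.incl_smul]

theorem Iso.bijective (a : Iso P P' W hW hW') (V : Small (f₀ ≫ ι)) (hV : V.o ≤ W) :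
    Function.Bijective (a.θ V hV) := by
  refine ⟨(injective_iff_map_eq_zero (a.θ V hV).hom).2 fun r hr => ?_, fun r' => ?_⟩
  · have hr' : a.θ V hV r = 0 := hr
    obtain ⟨n, rfl⟩ := P.exact V _ r (by rw [← a.π_apply V hV, hr', map_zero])
    rw [a.θ_incl] at hr'
    rw [P'.incl_inj V _ (hr'.trans (map_zero _).symm), map_zero]
  · obtain ⟨r, hr⟩ := P.π_surj V (hV.trans hW) (P'.π V _ r')
    obtain ⟨n, hn⟩ := P'.exact V _ (r' - a.θ V hV r) (by rw [map_sub, a.π_apply, hr, sub_self])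
    refine ⟨r + P.incl V _ n, ?_⟩
    rw [map_add, a.θ_incl, hn, add_sub_cancel]

theorem π_at_mul (V : Small (f₀ ≫ ι)) (hV : V.o ≤ U) (r : P.R V hV) (n : Γ(N, V.o)) :
    r * P.incl V hV n = P.incl V hV (P.π V hV r • n) := (P.incl_smul V hV r n).symm

theorem der_one {W : X₀.Opens} (d : DerOn (f₀ ≫ ι) N W) (V : Small (f₀ ≫ ι)) (hV : V.o ≤ W) : d.at' V hV 1 = 0 := by
  have h := d.2.2.1 V hV 1 1
  rw [mul_one, one_smul] at h
  exact left_eq_add.1 h

/-- Translation of an isomorphism by a derivation. -/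
def Iso.twist (a : Iso P P' W hW hW') (d : DerOn (f₀ ≫ ι) N W) : Iso P P' W hW hW' where
  θ V hV := CommRingCat.ofHom
    { toFun := fun r => a.θ V hV r + P'.incl V (hV.trans hW') (d.at' V hV (P.π V (hV.trans hW) r))
      map_one' := by rw [map_one, map_one, der_one, map_zero, add_zero]
      map_zero' := by simp
      map_add' := fun r t => by rw [map_add, map_add, map_add, map_add]; abel
      map_mul' := fun r t => by
        rw [map_mul, map_mul]
        have h := d.2.2.1 V hV (P.π V (hV.trans hW) r) (P.π V (hV.trans hW) t)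
        rw [show d.at' V hV (P.π V (hV.trans hW) r * P.π V (hV.trans hW) t) = _ from h, map_add,
          ← a.π_apply V hV r, ← a.π_apply V hV t, P'.incl_smul, P'.incl_smul, a.π_apply, a.π_apply]
        have h2 := P'.incl_mul_incl V (hV.trans hW') (d.at' V hV (P.π V (hV.trans hW) r))
          (d.at' V hV (P.π V (hV.trans hW) t))
        simp only [DerOn.at'] at h2 ⊢
        linear_combination -h2 }
  θ_res {V V'} h hV' := by
    ext r
    show P'.res h _ (a.θ V' hV' r + P'.incl V' _ (d.at' V' hV' (P.π V' _ r))) =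
      a.θ V _ (P.res h _ r) + P'.incl V _ (d.at' V _ (P.π V _ (P.res h _ r)))
    rw [map_add, P'.incl_res, show P'.res h _ (a.θ V' hV' r) = a.θ V _ (P.res h _ r) from congr($(a.θ_res h hV') r)]
    refine congrArg (_ + ·) (congrArg (P'.incl V _) ?_)
    rw [show P.π V _ (P.res h _ r) = X₀.presheaf.map (homOfLE h).op (P.π V' _ r) from
      congr($(P.π_res h (hV'.trans hW)) r)]
    exact (d.2.1 V V' hV' h _).symm
  θ_π V hV := by
    ext r
    show P'.π V _ (a.θ V hV r + P'.incl V _ _) = P.π V _ r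
    rw [map_add, P'.π_incl, add_zero, a.π_apply]
  θ_str V hV := by
    obtain ⟨T, e⟩ := V.2
    have e' : ⊤ ≤ P'.str V (hV.trans hW') ⁻¹ᵁ T.1 := P'.str_le V _ e
    refine eq_of_strR T.2 ?_ e' fun c => ?_
    · rw [Scheme.Hom.comp_preimage]
      exact (show (⊤ : (Spec (P'.R V (hV.trans hW'))).Opens) ≤ _ from
        (Scheme.Hom.preimage_mono (Spec.map _) (P.str_le V (hV.trans hW) e)))
    · rw [strR_comp _ (P.str V (hV.trans hW)) rfl T.1 (P.str_le V _ e) _]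
      show a.θ V hV (strR _ T.1 _ c) + P'.incl V _ (d.at' V hV (P.π V _ (strR _ T.1 _ c))) = _
      rw [P.π_strR V _ T.1 e, show d.at' V hV ((f₀ ≫ ι).appLE T.1 V.o e c) = 0 from d.2.2.2 V hV T.1 e c, map_zero,
        add_zero, strR_comp (a.θ V hV) _ (a.θ_str V hV) T.1 (P.str_le V _ e) e']
      rfl

theorem Iso.twist_apply (a : Iso P P' W hW hW') (d : DerOn (f₀ ≫ ι) N W) (V : Small (f₀ ≫ ι)) (hV : V.o ≤ W) (r) :
    (a.twist d).θ V hV r = a.θ V hV r + P'.incl V (hV.trans hW') (d.at' V hV (P.π V (hV.trans hW) r)) := rfl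

theorem Iso.twist_twist (a : Iso P P' W hW hW') (d d' : DerOn (f₀ ≫ ι) N W) :
    (a.twist d).twist d' = a.twist (d + d') := Iso.ext' fun V hV r => by
  simp only [Iso.twist_apply, DerOn.at_add, map_add]
  abel

theorem Iso.twist_zero (a : Iso P P' W hW hW') : a.twist 0 = a := Iso.ext' fun V hV r => by
  simp only [Iso.twist_apply, DerOn.at_zero, map_zero, add_zero]

theorem Iso.twist_injective (a : Iso P P' W hW hW') {d d' : DerOn (f₀ ≫ ι) N W} (h : a.twist d = a.twist d') :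
    d = d' := DerOn.ext' fun V hV s => by
  obtain ⟨r, rfl⟩ := P.π_surj V (hV.trans hW) s
  have h1 := congr(($h).θ V hV r)
  rw [Iso.twist_apply, Iso.twist_apply, add_right_inj] at h1
  exact P'.incl_inj V _ h1

/-- Composition. -/
def Iso.comp (a : Iso P P' W hW hW') (c : Iso P' P'' W hW' hW'') : Iso P P'' W hW hW'' where
  θ V hV := a.θ V hV ≫ c.θ V hV
  θ_res {V V'} h hV' := by rw [Category.assoc, c.θ_res h hV', ← Category.assoc, a.θ_res h hV', Category.assoc]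
  θ_π V hV := by rw [Category.assoc, c.θ_π, a.θ_π]
  θ_str V hV := by rw [Spec.map_comp, Category.assoc, a.θ_str, c.θ_str]

theorem Iso.twist_comp (a : Iso P P' W hW hW') (c : Iso P' P'' W hW' hW'') (d : DerOn (f₀ ≫ ι) N W) :
    (a.twist d).comp c = (a.comp c).twist d := Iso.ext' fun V hV r => by
  show c.θ V hV ((a.twist d).θ V hV r) = c.θ V hV (a.θ V hV r) + _
  rw [Iso.twist_apply, map_add, c.θ_incl]

theorem Iso.comp_twist (a : Iso P P' W hW hW') (c : Iso P' P'' W hW' hW'') (d : DerOn (f₀ ≫ ι) N W) :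
    a.comp (c.twist d) = (a.comp c).twist d := Iso.ext' fun V hV r => by
  show (c.twist d).θ V hV (a.θ V hV r) = c.θ V hV (a.θ V hV r) + _
  rw [Iso.twist_apply, a.π_apply]

theorem Iso.comp_assoc {U₃ : X₀.Opens} {P₃ : Thick G U₃} {hW₃ : W ≤ U₃} (a : Iso P P' W hW hW')
    (c : Iso P' P'' W hW' hW'') (e : Iso P'' P₃ W hW'' hW₃) : (a.comp c).comp e = a.comp (c.comp e) :=
  Iso.ext' fun _ _ _ => rfl

/-- Restriction. -/
def Iso.restrict (a : Iso P P' W hW hW') (h : W' ≤ W) : Iso P P' W' (h.trans hW) (h.trans hW') where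
  θ V hV := a.θ V (hV.trans h)
  θ_res {V V'} h' hV' := a.θ_res h' (hV'.trans h)
  θ_π V hV := a.θ_π V (hV.trans h)
  θ_str V hV := a.θ_str V (hV.trans h)

theorem Iso.restrict_twist (a : Iso P P' W hW hW') (h : W' ≤ W) (d : DerOn (f₀ ≫ ι) N W) :
    (a.twist d).restrict h = (a.restrict h).twist (resD h d) := Iso.ext' fun _ _ _ => rfl

/-- The identity. -/
def Iso.refl (P : Thick G U) (W : X₀.Opens) (hW : W ≤ U) : Iso P P W hW hW where
  θ _ _ := 𝟙 _
  θ_res _ _ := by rw [Category.id_comp, Category.comp_id]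
  θ_π _ _ := Category.id_comp _
  θ_str _ _ := by rw [Spec.map_id, Category.id_comp]

/-- Two isomorphisms differ by a derivation. -/
theorem Iso.exists_twist_eq (a a' : Iso P P' W hW hW') : ∃ d, a.twist d = a' := by
  have hex : ∀ (V : Small (f₀ ≫ ι)) (hV : V.o ≤ W) (r : P.R V (hV.trans hW)),
      ∃ n, P'.incl V (hV.trans hW') n = a'.θ V hV r - a.θ V hV r := fun V hV r =>
    P'.exact V _ _ (by rw [map_sub, a'.π_apply, a.π_apply, sub_self])
  choose nr hnr using hex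
  have hwd : ∀ (V : Small (f₀ ≫ ι)) (hV : V.o ≤ W) (r t : P.R V (hV.trans hW)),
      P.π V _ r = P.π V _ t → nr V hV r = nr V hV t := by
    intro V hV r t h
    obtain ⟨m, hm⟩ := P.exact V (hV.trans hW) (r - t) (by rw [map_sub, h, sub_self])
    refine P'.incl_inj V (hV.trans hW') ?_
    rw [hnr, hnr, show r = t + P.incl V _ m by rw [hm]; abel, map_add, map_add, a.θ_incl, a'.θ_incl]
    abel
  choose lf hlf using fun (V : Small (f₀ ≫ ι)) (hV : V.o ≤ W) (s : Γ(X₀, V.o)) => P.π_surj V (hV.trans hW) s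
  have key : ∀ (V : Small (f₀ ≫ ι)) (hV : V.o ≤ W) (r : P.R V (hV.trans hW)),
      P'.incl V (hV.trans hW') (nr V hV (lf V hV (P.π V _ r))) = a'.θ V hV r - a.θ V hV r := fun V hV r => by
    rw [hwd V hV _ r (hlf V hV _), hnr]
  let δ : ∀ V : {V : Small (f₀ ≫ ι) // V.o ≤ W}, Γ(X₀, V.1.o) →+ Γ(N, V.1.o) := fun V =>
    AddMonoidHom.mk' (fun s => nr V.1 V.2 (lf V.1 V.2 s)) fun s t => by
      refine P'.incl_inj V.1 (V.2.trans hW') ?_
      rw [map_add]
      conv_lhs => rw [← hlf V.1 V.2 s, ← hlf V.1 V.2 t, ← map_add, key]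
      rw [hnr, hnr, map_add, map_add]
      abel
  have hδ : δ ∈ derSub (f₀ ≫ ι) N W := by
    refine ⟨fun V V' hV' h s => ?_, fun V hV r t => ?_, fun V hV T e c => ?_⟩
    · refine P'.incl_inj V ((h.trans hV').trans hW') ?_
      show P'.incl V ((h.trans hV').trans hW') (nr V (h.trans hV') (lf V (h.trans hV') _)) = P'.incl V _ (N.presheaf.map _ (nr V' hV' (lf V' hV' s)))
      rw [← P'.incl_res h (hV'.trans hW'), hnr V' hV', map_sub]
      conv_lhs => rw [← hlf V' hV' s, show X₀.presheaf.map (homOfLE h).op (P.π V' _ (lf V' hV' s)) =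
        P.π V _ (P.res h _ (lf V' hV' s)) from (congr($(P.π_res h (hV'.trans hW)) (lf V' hV' s))).symm, key]
      exact congrArg₂ (· - ·) (congr($(a'.θ_res h hV') (lf V' hV' s))).symm (congr($(a.θ_res h hV') (lf V' hV' s))).symm
    · refine P'.incl_inj V (hV.trans hW') ?_
      show P'.incl V _ (nr V hV (lf V hV (r * t))) = P'.incl V _ (r • nr V hV (lf V hV t) + t • nr V hV (lf V hV r))
      conv_lhs => rw [← hlf V hV r, ← hlf V hV t, ← map_mul, key]
      conv_rhs => arg 2; arg 1; arg 1; rw [← hlf V hV r, ← a.π_apply V hV]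
      conv_rhs => arg 2; arg 2; arg 1; rw [← hlf V hV t, ← a'.π_apply V hV]
      rw [map_add, P'.incl_smul, P'.incl_smul, hnr, hnr, map_mul, map_mul]
      ring
    · refine P'.incl_inj V (hV.trans hW') ?_
      show P'.incl V _ (nr V hV (lf V hV _)) = _
      rw [← P.π_strR V (hV.trans hW) T e, key, map_zero, sub_eq_zero]
      refine Eq.trans ?_ (congr($(strR_comp (a.θ V hV) _ (a.θ_str V hV) T (P.str_le V _ e) (P'.str_le V _ e)) c))
      exact (congr($(strR_comp (a'.θ V hV) _ (a'.θ_str V hV) T (P.str_le V _ e) (P'.str_le V _ e)) c)).symm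
  refine ⟨⟨δ, hδ⟩, Iso.ext' fun V hV r => ?_⟩
  rw [Iso.twist_apply]
  show _ + P'.incl V _ (nr V hV (lf V hV (P.π V _ r))) = _
  rw [key]
  abel

variable (P P')

/-- Isomorphisms exist over small affines. -/
theorem nonempty_iso (V₀ : Small (f₀ ≫ ι)) (hU : V₀.o ≤ U) (hU' : V₀.o ≤ U') :
    Nonempty (Iso P P' V₀.o hU hU') := by
  obtain ⟨T, e⟩ := V₀.2
  let A := Γ(S, T.1)
  let sP := (strR (P.str V₀ hU) T.1 (P.str_le V₀ hU e)).hom
  let sP' := (strR (P'.str V₀ hU') T.1 (P'.str_le V₀ hU' e)).hom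
  have hψ : ∃ ψ : P.R V₀ hU ⟶ P'.R V₀ hU', ψ ≫ P'.π V₀ hU' = P.π V₀ hU ∧ ψ.hom.comp sP = sP' := by
    letI a1 : Algebra A (P.R V₀ hU) := sP.toAlgebra
    letI a2 : Algebra A (P'.R V₀ hU') := sP'.toAlgebra
    letI a3 : Algebra A Γ(X₀, V₀.o) := ((f₀ ≫ ι).appLE T.1 V₀.o e).hom.toAlgebra
    haveI : Algebra.FormallySmooth A (P.R V₀ hU) := P.fsm T V₀ hU _
    let π₁ : P.R V₀ hU →ₐ[A] Γ(X₀, V₀.o) := { (P.π V₀ hU).hom with commutes' := fun c => P.π_strR V₀ hU T.1 e c }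
    let π₂ : P'.R V₀ hU' →ₐ[A] Γ(X₀, V₀.o) := { (P'.π V₀ hU').hom with commutes' := fun c => P'.π_strR V₀ hU' T.1 e c }
    let l := Algebra.FormallySmooth.liftOfSurjective π₁ π₂ (P'.π_surj V₀ hU') (P'.isNilpotent_ker V₀ hU')
    refine ⟨CommRingCat.ofHom l.toRingHom, ?_, RingHom.ext fun c => l.commutes c⟩
    ext r
    exact Algebra.FormallySmooth.liftOfSurjective_apply π₁ π₂ (P'.π_surj V₀ hU') (P'.isNilpotent_ker V₀ hU') r
  obtain ⟨ψ, hψπ, hψs⟩ := hψ
  have hψstr : Spec.map ψ ≫ P.str V₀ hU = P'.str V₀ hU' := by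
    refine eq_of_strR T.2 ?_ (P'.str_le V₀ hU' e) fun c => ?_
    · rw [Scheme.Hom.comp_preimage]
      exact (show (⊤ : (Spec (P'.R V₀ hU')).Opens) ≤ _ from
        Scheme.Hom.preimage_mono (Spec.map ψ) (P.str_le V₀ hU e))
    · rw [strR_comp ψ (P.str V₀ hU) rfl T.1 (P.str_le V₀ hU e) _]
      exact RingHom.congr_fun hψs c
  have het : ∀ (V : Small (f₀ ≫ ι)) (h : V.o ≤ V₀.o), (P.res h hU).hom.Etale := fun V h => by
    haveI := P.openImm h hU
    exact (HasRingHomProperty.Spec_iff (P := @Etale)).1 inferInstance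
  have hex : ∀ (V : Small (f₀ ≫ ι)) (h : V.o ≤ V₀.o), ∃! θ : P.R V (h.trans hU) ⟶ P'.R V (h.trans hU'),
      P.res h hU ≫ θ = ψ ≫ P'.res h hU' ∧ θ ≫ P'.π V (h.trans hU') = P.π V (h.trans hU) := by
    intro V h
    letI a1 : Algebra (P.R V₀ hU) (P.R V (h.trans hU)) := (P.res h hU).hom.toAlgebra
    letI a2 : Algebra (P.R V₀ hU) (P'.R V (h.trans hU')) := (ψ ≫ P'.res h hU').hom.toAlgebra
    letI a3 : Algebra (P.R V₀ hU) Γ(X₀, V.o) := (P.π V₀ hU ≫ X₀.presheaf.map (homOfLE h).op).hom.toAlgebra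
    haveI : Algebra.Etale (P.R V₀ hU) (P.R V (h.trans hU)) := het V h
    let π₁ : P.R V (h.trans hU) →ₐ[P.R V₀ hU] Γ(X₀, V.o) :=
      { (P.π V (h.trans hU)).hom with commutes' := fun r => congr($(P.π_res h hU) r) }
    have hc2 : ∀ r, P'.π V (h.trans hU') (P'.res h hU' (ψ r)) = X₀.presheaf.map (homOfLE h).op (P.π V₀ hU r) := by
      intro r
      rw [show P'.π V (h.trans hU') (P'.res h hU' (ψ r)) = X₀.presheaf.map (homOfLE h).op (P'.π V₀ hU' (ψ r)) from
        congr($(P'.π_res h hU') (ψ r))]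
      exact congrArg _ congr($hψπ r)
    let π₂ : P'.R V (h.trans hU') →ₐ[P.R V₀ hU] Γ(X₀, V.o) :=
      { (P'.π V (h.trans hU')).hom with commutes' := hc2 }
    let l := Algebra.FormallySmooth.liftOfSurjective π₁ π₂ (P'.π_surj V _) (P'.isNilpotent_ker V _)
    have hl : ∀ z, P'.π V (h.trans hU') (l z) = P.π V (h.trans hU) z :=
      Algebra.FormallySmooth.liftOfSurjective_apply π₁ π₂ (P'.π_surj V _) (P'.isNilpotent_ker V _)
    refine ⟨CommRingCat.ofHom l.toRingHom, ⟨?_, ?_⟩, fun θ hθ => ?_⟩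
    · ext r; exact l.commutes r
    · ext r; exact hl r
    · let θ' : P.R V (h.trans hU) →ₐ[P.R V₀ hU] P'.R V (h.trans hU') :=
        { θ.hom with commutes' := fun r => congr($(hθ.1) r) }
      have := Algebra.FormallyUnramified.lift_unique_of_ringHom (P'.π V (h.trans hU')).hom
        (P'.isNilpotent_ker V _) θ' l (RingHom.ext fun z => (congr($(hθ.2) z)).trans (hl z).symm)
      ext r
      exact AlgHom.congr_fun this r
  choose θ hθ hθu using hex
  refine ⟨⟨θ, fun {V V'} h hV' => ?_, fun V hV => (hθ V hV).2, fun V hV => ?_⟩⟩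
  · letI a1 : Algebra (P.R V₀ hU) (P.R V' (hV'.trans hU)) := (P.res hV' hU).hom.toAlgebra
    letI a2 : Algebra (P.R V₀ hU) (P'.R V (h.trans (hV'.trans hU'))) := (ψ ≫ P'.res (h.trans hV') hU').hom.toAlgebra
    haveI : Algebra.Etale (P.R V₀ hU) (P.R V' (hV'.trans hU)) := het V' hV'
    have hc1 : ∀ r, P'.res h (hV'.trans hU') (θ V' hV' (P.res hV' hU r)) = P'.res (h.trans hV') hU' (ψ r) := by
      intro r
      rw [show θ V' hV' (P.res hV' hU r) = P'.res hV' hU' (ψ r) from congr($((hθ V' hV').1) r)]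
      exact congr($(P'.res_res h hV' hU') (ψ r))
    have hc2 : ∀ r, θ V (h.trans hV') (P.res h (hV'.trans hU) (P.res hV' hU r)) = P'.res (h.trans hV') hU' (ψ r) := by
      intro r
      rw [show P.res h (hV'.trans hU) (P.res hV' hU r) = P.res (h.trans hV') hU r from congr($(P.res_res h hV' hU) r)]
      exact congr($((hθ V (h.trans hV')).1) r)
    let g₁ : P.R V' (hV'.trans hU) →ₐ[P.R V₀ hU] P'.R V (h.trans (hV'.trans hU')) :=
      { (θ V' hV' ≫ P'.res h (hV'.trans hU')).hom with commutes' := hc1 }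
    let g₂ : P.R V' (hV'.trans hU) →ₐ[P.R V₀ hU] P'.R V (h.trans (hV'.trans hU')) :=
      { (P.res h (hV'.trans hU) ≫ θ V (h.trans hV')).hom with commutes' := hc2 }
    have hg : g₁ = g₂ := Algebra.FormallyUnramified.lift_unique_of_ringHom (P'.π V (h.trans (hV'.trans hU'))).hom
      (P'.isNilpotent_ker V _) g₁ g₂ (RingHom.ext fun z => by
        show P'.π V _ (P'.res h _ (θ V' hV' z)) = P'.π V _ (θ V _ (P.res h _ z))
        rw [show P'.π V _ (θ V (h.trans hV') (P.res h _ z)) = P.π V _ (P.res h _ z) from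
          congr($((hθ V (h.trans hV')).2) (P.res h _ z))]
        refine (congr($(P'.π_res h (hV'.trans hU')) (θ V' hV' z))).trans ?_
        refine Eq.trans ?_ (congr($(P.π_res h (hV'.trans hU)) z)).symm
        exact congrArg (X₀.presheaf.map (homOfLE h).op) congr($((hθ V' hV').2) z))
    ext z
    exact AlgHom.congr_fun hg z
  · rw [← P.str_res hV hU, ← Category.assoc, ← Spec.map_comp, (hθ V hV).1, Spec.map_comp, Category.assoc, hψstr,
      P'.str_res]

end Thick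

end Groth.Agent.LiftObs29
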